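import Cfsg.Agent.KZ.Lie.Iface
import Cfsg.Agent.DL.Mk.Final
import Cfsg.Agent.DL.Lef.Spectral

/-!
# OM, the sum of the reflections acts by a scalar on the multiplicities (helper63): statements

`BoxCas` is the aim.  `H = G ^ F`, `S = G ^ σ` for a split power `σ` of `F`, `z` the sum of the unipotent elements of `S`.
* `BoxEig` : `z ^ 2` acts on the irreducible characters of `S` by powers of `Q`;
* `BoxKaw` : the number of the unipotent elements in the double cosets of `U`;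
* `BoxIso`, `BoxOrd`, `BoxSp` : the Shintani correspondence, the order of `S`, rationality of the kernels of `z ^ n`;
* `BoxPur`, `BoxMean` : an irreducible character of `H` is an eigenvector of `z ^ 2` at all large levels;
* `BoxSh` : the trace formula;  `BoxGen` : the first order term of the generic operator.
-/

set_option autoImplicit false
set_option linter.unusedSectionVars false

namespace Cfsg.Agent.OM.Cas

open Cfsg Cfsg.Agent.DL Cfsg.Agent.DL.PP Cfsg.Agent.DL.Uni Cfsg.Agent.DL.Lef Cfsg.Agent.KZ.Lie Polynomial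

section Grp

variable {Y : Type} [Group Y]

open Classical in
/-- the sum of `ψ` over the elements of `S` in `Un` -/
noncomputable def usum (S : Subgroup Y) [Fintype S] (Un : Set Y) (ψ : S → ℂ) : ℂ :=
  ∑ v : S, if (v : Y) ∈ Un then ψ v else 0

/-- right convolution with the sum of the elements of `S` in `Un` -/
noncomputable def zs (S : Subgroup Y) [Fintype S] (Un : Set Y) (κ : Y → ℂ) (y : Y) : ℂ :=
  usum S Un fun v => κ (y * v)

/-- the twisted average, transported to `H` -/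
noncomputable def ph (F : MulAut Y) (S : Subgroup Y) [Fintype S] {H : Type} (h : H → Y) (κ : Y → ℂ) (g : H) : ℂ :=
  ∑ x : S, κ ((x : Y)⁻¹ * h g * F x)

/-- the kernel of the `n`-th power of the convolution -/
noncomputable def Nk (F : MulAut Y) (S : Subgroup Y) (Un : Set Y) {H : Type} (h : H → Y) (n : ℕ) (z : H × H) : ℕ :=
  Nat.card {y : Y × (Fin n → Y) // y.1 ∈ S ∧ (∀ i, y.2 i ∈ S ∧ y.2 i ∈ Un) ∧
    h z.1 * (List.ofFn y.2).prod = y.1⁻¹ * h z.2 * F y.1}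

/-- the abstract Shintani correspondence -/
structure Shi (F : MulAut Y) (S : Subgroup Y) [Fintype S] {H : Type} [Fintype H] (h : H → Y) : Prop where
  map : ∀ y ∈ S, F y ∈ S
  mem : ∀ g, h g ∈ S
  iso : ∀ κ : Y → ℂ, ∑ g : H, ph F S h κ g = Nat.card H * ∑ y : S, κ y

/-- invariant subsets -/
structure Cls (F : MulAut Y) (S : Subgroup Y) (Un : Set Y) : Prop where
  conj : ∀ x ∈ S, ∀ v ∈ Un, x * v * x⁻¹ ∈ Un
  map : ∀ v ∈ S, F v ∈ Un ↔ v ∈ Un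
  inv : ∀ v ∈ Un, v⁻¹ ∈ Un

/-- the character `χ ⊗ conj χ` of `H × H` -/
noncomputable def sq2 {H : Type} (χ : H → ℂ) (z : H × H) : ℂ := χ z.1 * (starRingEnd ℂ) (χ z.2)

end Grp

/-- the levels of one group -/
def BoxPur : Prop :=
  ∀ {Y : Type} [Group Y] (F : MulAut Y) (S : Subgroup Y) [Fintype S] (H : Type) [Group H] [Fintype H] (h : H → Y)
    (Un : Set Y) (Q J : ℕ), Shi F S h → Cls F S Un → 1 < Q →
    (∀ ψ : S → ℂ, IsIrrCharacter S ψ → ∃ j ≤ J, usum S Un ψ ^ 2 = (Q : ℂ) ^ j * ψ 1 ^ 2) →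
    ∀ χ : H → ℂ, classInner χ χ = 1 → (∀ g g', ∀ x ∈ S, h g' = x⁻¹ * h g * F x → χ g' = χ g) →
    ∃ (K : ℕ → H × H → ℤ) (w : ℕ → ℝ), (∀ j z, |K j z| ≤ Nat.card H) ∧
      (∀ j, (w j : ℂ) = classInner (fun z => (K j z : ℂ)) (sq2 χ)) ∧ (∀ j, 0 ≤ w j) ∧
      ∑ j ∈ Finset.range (J + 1), w j = 1 ∧
      (∀ k z, (Nk F S Un h (2 * k) z : ℤ) = ∑ j ∈ Finset.range (J + 1), (Q : ℤ) ^ (j * k) * K j z) ∧
      ∀ j ≤ J, w j = 1 → ∀ κ : Y → ℂ,
        classInner (ph F S h (zs S Un (zs S Un κ))) χ = (Q : ℂ) ^ j * classInner (ph F S h κ) χ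

/-- weights with integral moments are pure -/
def BoxMean : Prop :=
  ∀ (Q J : ℕ) (O : ℤ[X]) (w : ℕ → ℕ → ℝ) (A : Set ℝ), 1 < Q → O.Monic → A.Finite →
    (∀ j m, 0 < m → w j m ∈ A ∧ 0 ≤ w j m) → (∀ m, 0 < m → ∑ j ∈ Finset.range (J + 1), w j m = 1) →
    (∀ k, ExpZ fun m => ((O.eval ((Q : ℤ) ^ m) : ℤ) : ℂ) *
      ∑ j ∈ Finset.range (J + 1), ((Q : ℂ) ^ m) ^ (j * k) * (w j m : ℂ)) →
    ∃ j ≤ J, ∃ B, ∀ m, B < m → w j m = 1

open Classical in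
/-- the first order term of the generic operator of the square of the longest element -/
def BoxGen : Prop :=
  ∀ {I W : Type} {M : CoxeterMatrix I} [Group W] [Fintype W] (cs : CoxeterSystem M W) (P : Set W) (ε : W → I → Prop),
    (∀ w i, ε w i ↔ w * cs.simple i * w⁻¹ ∈ P) → ∀ ω : List I, cs.IsReduced ω → (∀ w, cs.length w ≤ ω.length) →
    (∀ (φ : W → ℂ[X]) (w : W), (Mk.Rw cs ε X ω (Mk.Rw cs ε X ω φ) w).eval 1 = (φ w).eval 1 ∧
      (derivative (Mk.Rw cs ε X ω (Mk.Rw cs ε X ω φ) w)).eval 1 = (derivative (φ w)).eval 1 + ω.length * (φ w).eval 1 +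
        ∑ t : W, if cs.IsReflection t ∧ t ∈ P then (φ (t * w)).eval 1 else 0) ∧
    ∀ (A : Set W), (∀ t ∈ P, ∀ w ∈ A, t * w ∈ A) → ∀ φ : W → ℂ, (∀ w ∈ A, φ w = 0) → ∀ q : ℂ, ∀ w ∈ A,
      Mk.Rw cs ε q ω (Mk.Rw cs ε q ω φ) w = 0

section Lie

variable {p : ℕ} [Fact p.Prime] {k : Type} [Field k] [CharP k p] {Y : Type} [Group Y] {N : Type} [Fintype N]
  [DecidableEq N] {ρ : Y →* GL N k} {F : MulAut Y} {G : Subgroup Y} [IsAlgClosed k]

/-- the reflections in the roots on whose coroots the label is trivial -/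
def Rf (D : Datum p ρ F G) (c : Lbl D) : Set D.W := {t | ∃ a, D.Rt a ∧ D.rf a = t ∧ chr (D.cor a) c = 1}

open Classical in
/-- the sum of the reflections of the label -/
noncomputable def cas (D : Datum p ρ F G) [Fintype D.W] (c : Lbl D) (y : D.W → ℂ) (w : D.W) : ℂ :=
  ∑ t : D.W, if t ∈ Rf D c then y (t * w) else 0

end Lie

/-- **The multiplicities of an irreducible character form an eigenvector.** -/
def BoxCas : Prop :=
  ∀ {p : ℕ} [Fact p.Prime] {k : Type} [Field k] [CharP k p] {Y : Type} [Group Y] {N : Type} [Fintype N]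
    [DecidableEq N] {ρ : Y →* GL N k} {F : MulAut Y} {G : Subgroup Y} [IsAlgClosed k] {D : Datum p ρ F G} (f : Fr D)
    [Fintype ↥(GF F G)] [Fintype D.W], D.QS → ∀ χ : GF F G → ℂ, IsIrrCharacter (GF F G) χ → ∀ c : Lbl D,
      ∃ κ : ℂ, ∀ w, cas D c (fun u => classInner χ (RW f u c)) w = κ * classInner χ (RW f w c)

/-- the sum of a class function over the unipotent elements -/
def BoxGam : Prop :=
  ∀ {p : ℕ} [Fact p.Prime] {k : Type} [Field k] [CharP k p] {Y : Type} [Group Y] {N : Type} [Fintype N]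
    [DecidableEq N] {ρ : Y →* GL N k} {F : MulAut Y} {G : Subgroup Y} [IsAlgClosed k] {D : Datum p ρ F G} (f : Fr D)
    [Fintype ↥(GF F G)], D.QS → ∀ χ : GF F G → ℂ,
      usum (GF F G) {v | IsUni p v} χ = Nat.card (GF F G) * (Nat.card D.W : ℂ)⁻¹ *
        ∑ᶠ (w : D.W) (c : Lbl D), (ordT D w : ℂ)⁻¹ * classInner χ (RW f w c)

/-- the eigenvalues of the sum of the unipotent elements -/
def BoxEig : Prop :=
  ∀ {p : ℕ} [Fact p.Prime] {k : Type} [Field k] [CharP k p] {Y : Type} [Group Y] {N : Type} [Fintype N]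
    [DecidableEq N] {ρ : Y →* GL N k} {F : MulAut Y} {G : Subgroup Y} [IsAlgClosed k] (D : Datum p ρ F G) {d e : ℕ},
    D.QS → D.Split d e → ∀ σ : MulAut Y, σ = F ^ d → ∀ [Fintype ↥(G ⊓ Mk.fix σ)] (ψ : ↥(G ⊓ Mk.fix σ) → ℂ),
      IsIrrCharacter ↥(G ⊓ Mk.fix σ) ψ →
      ∃ j : ℕ, usum (G ⊓ Mk.fix σ) {v | IsUni p v} ψ ^ 2 = ((p ^ e : ℕ) : ℂ) ^ j * ψ 1 ^ 2

/-- the unipotent elements in the double cosets of `U` -/
def BoxKaw : Prop :=
  ∀ {p : ℕ} [Fact p.Prime] {k : Type} [Field k] [CharP k p] {Y : Type} [Group Y] {N : Type} [Fintype N]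
    [DecidableEq N] {ρ : Y →* GL N k} {F : MulAut Y} {G : Subgroup Y} [IsAlgClosed k] (D : Datum p ρ F G) {d e : ℕ},
    D.Split d e → ∀ σ : MulAut Y, σ = F ^ d → ∀ [Fintype ↥(G ⊓ Mk.fix σ)] [Fintype ↥(D.U ⊓ Mk.fix σ)] (n₀ : Y),
      n₀ ∈ D.NN ⊓ Mk.fix σ → (∀ w, D.cs.length w ≤ D.cs.length (D.pr n₀)) → ∀ κ : Y → ℂ, Mk.Bi (D.U ⊓ Mk.fix σ) κ →
      usum (G ⊓ Mk.fix σ) {v | IsUni p v} (fun v => κ v) =
        Nat.card ↥(D.U ⊓ Mk.fix σ) * ∑ u : ↥(D.U ⊓ Mk.fix σ), κ (n₀ * u * n₀⁻¹)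

/-- the Shintani correspondence -/
def BoxIso : Prop :=
  ∀ {p : ℕ} [Fact p.Prime] {k : Type} [Field k] [CharP k p] {Y : Type} [Group Y] {N : Type} [Fintype N]
    [DecidableEq N] {ρ : Y →* GL N k} {F : MulAut Y} {G : Subgroup Y} [IsAlgClosed k] (_ : Datum p ρ F G) {d : ℕ},
    0 < d → ∀ σ : MulAut Y, σ = F ^ d → ∀ [Fintype ↥(GF F G)] [Fintype ↥(G ⊓ Mk.fix σ)] (a : GF F G → Y),
      (∀ g, a g ∈ G ∧ σ (a g) = g * a g) → Shi F (G ⊓ Mk.fix σ) (fun g => (a g)⁻¹ * F (a g)) ∧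
        Cls F (G ⊓ Mk.fix σ) {v | IsUni p v} ∧
        ∀ g g', ∀ x ∈ G ⊓ Mk.fix σ, (a g')⁻¹ * F (a g') = x⁻¹ * ((a g)⁻¹ * F (a g)) * F x → IsConj g g'

/-- the orders of the split groups -/
def BoxOrd : Prop :=
  ∀ {p : ℕ} [Fact p.Prime] {k : Type} [Field k] [CharP k p] {Y : Type} [Group Y] {N : Type} [Fintype N]
    [DecidableEq N] {ρ : Y →* GL N k} {F : MulAut Y} {G : Subgroup Y} [IsAlgClosed k] (D : Datum p ρ F G) {d e : ℕ},
    D.Split d e → ∃ (O : ℤ[X]) (J : ℕ), O.Monic ∧ ∀ m, 0 < m →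
      (Nat.card ↥(G ⊓ Mk.fix ((F ^ d) ^ m)) : ℤ) = O.eval (((p ^ e : ℕ) : ℤ) ^ m) ∧
      Nat.card ↥(G ⊓ Mk.fix ((F ^ d) ^ m)) ≤ ((p ^ e) ^ m) ^ J

/-- rationality of the kernels -/
def BoxSp : Prop :=
  ∀ {p : ℕ} [Fact p.Prime] {k : Type} [Field k] [CharP k p] {Y : Type} [Group Y] {N : Type} [Fintype N]
    [DecidableEq N] {ρ : Y →* GL N k} {F : MulAut Y} {G : Subgroup Y} [IsAlgClosed k] (D : Datum p ρ F G) {d e : ℕ},
    D.Split d e → ∀ [Fintype ↥(GF F G)] (a : ℕ → GF F G → Y),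
      (∀ m, 0 < m → ∀ g, a m g ∈ G ∧ ((F ^ d) ^ m) (a m g) = g * a m g) → ∀ n : ℕ,
      Spectral (GF F G × GF F G) fun m z => (Nat.card ↥(G ⊓ Mk.fix ((F ^ d) ^ m)) : ℂ) *
        Nk F (G ⊓ Mk.fix ((F ^ d) ^ m)) {v | IsUni p v} (fun g => (a m g)⁻¹ * F (a m g)) n z

/-- the trace formula -/
def BoxSh : Prop :=
  ∀ {p : ℕ} [Fact p.Prime] {k : Type} [Field k] [CharP k p] {Y : Type} [Group Y] {N : Type} [Fintype N]
    [DecidableEq N] {ρ : Y →* GL N k} {F : MulAut Y} {G : Subgroup Y} [IsAlgClosed k] {D : Datum p ρ F G} (f : Fr D)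
    [Fintype ↥(GF F G)] [Fintype D.W], D.QS → ∀ c : Lbl D, (∃ w, Fx D w c) →
    ∃ (d e : ℕ) (lam : Y → ℂ) (S : D.W → ℕ → GF F G → ℂ), D.Split d e ∧ Mk.Lin (D.T ⊓ Mk.fix (F ^ d)) lam ∧
      (∀ w i, Mk.epsOf D.cs D.n (fun i => D.τ.comp (coch (D.cw i))⁻¹) (p ^ e) lam w i ↔
        w * D.cs.simple i * w⁻¹ ∈ Rf D c) ∧
      (∀ w, Fx D w c → (∀ g, ExpC fun m => S w m g) ∧ lefFun (S w) = RW f w c) ∧
      ∀ m, 0 < m → ∀ [Fintype ↥(G ⊓ Mk.fix ((F ^ d) ^ m))] (κ : Y → ℂ) (φ : D.W → ℂ),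
        Mk.Good (D.U ⊓ Mk.fix ((F ^ d) ^ m)) (D.T ⊓ Mk.fix ((F ^ d) ^ m)) (D.NN ⊓ Mk.fix (F ^ d)) D.pr
          (fun t => lam (t ^ Mk.gs (p ^ e) m)) κ φ → (∀ w, ¬ Fx D w c → φ w = 0) →
        ∀ a : GF F G → Y, (∀ g, a g ∈ G ∧ ((F ^ d) ^ m) (a g) = g * a g) → ∀ g,
          ph F (G ⊓ Mk.fix ((F ^ d) ^ m)) (fun g => (a g)⁻¹ * F (a g)) κ g =
            Nat.card ↥(D.T ⊓ Mk.fix ((F ^ d) ^ m)) * ∑ w, φ w * S w m g

end Cfsg.Agent.OM.Cas
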