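import Cfsg.Agent.LV.One.Res

/-!
# OM: self-reciprocal fractions with integral values are monomials (helper51)
-/

set_option autoImplicit false
set_option linter.unusedSectionVars false

namespace Cfsg.Agent.OM.Cas.Eig

open Polynomial Matrix Cfsg.Agent.LV.One

theorem aeval_eq (f : ℤ[X]) (x : ℚ) : (f.map (Int.castRingHom ℚ)).eval x = aeval x f := by
  rw [eval_map, aeval_def]
  rfl

theorem mono {A B : ℤ[X]} {N p : ℕ} {s : ℚ} (hp : p.Prime) (hs : s ≠ 0) (hB : B ≠ 0)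
    (h1 : ∀ x : ℚ, x ≠ 0 → x ^ N * aeval x⁻¹ B = s * aeval x A) (h2 : ∀ x : ℚ, x ≠ 0 → x ^ N * aeval x⁻¹ A = s * aeval x B)
    (h : ∀ K : ℕ, ∃ j ν : ℕ, K < j ∧ B.eval ((p : ℤ) ^ j) ∣ (p : ℤ) ^ ν * A.eval ((p : ℤ) ^ j)) :
    ∃ a b : ℕ, ∀ t : ℤ, (t ^ a * A.eval t) ^ 2 = (t ^ b * B.eval t) ^ 2 := by
  obtain ⟨u, h3, h4⟩ := exists_eq_pow_rootMultiplicity_mul_and_not_dvd B hB 0
  rw [C_0, sub_zero] at h3 h4
  generalize rootMultiplicity 0 B = a at h3
  obtain ⟨R, hR⟩ := dvd_of_pow_values (f := u) (g := A) hp (mt X_dvd_iff.2 h4) fun K =>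
    (h K).imp fun j h => h.imp fun ν h => ⟨h.1, (eval_dvd (Dvd.intro_left _ h3.symm)).trans h.2⟩
  have h5 : ∀ x : ℚ, x ^ a * aeval x A = aeval x B * R.eval x := fun x => by
    rw [← aeval_eq A, hR, h3, eval_mul, aeval_eq, map_mul, map_pow, aeval_X, mul_assoc]
  have h6 : ∀ x : ℚ, x ≠ 0 → R.reverse.eval x = x ^ R.natDegree * R.eval x⁻¹ := fun x hx => by
    have := invertibleOfNonzero (inv_ne_zero hx)
    have h7 := eval₂_reverse_mul_pow (RingHom.id ℚ) x⁻¹ R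
    rw [invOf_eq_inv, inv_inv, eval₂_id, eval₂_id] at h7
    rw [← h7, mul_left_comm, ← mul_pow, mul_inv_cancel₀ hx, one_pow, mul_one]
  have h7 : B.map (Int.castRingHom ℚ) * X * (R * R.reverse - X ^ R.natDegree) = 0 := Polynomial.funext fun x => by
    rw [eval_mul, eval_mul, eval_sub, eval_mul, eval_pow, eval_X, aeval_eq, eval_zero]
    by_cases hx : x = 0
    · rw [hx, mul_zero, zero_mul]
    have h8 : x ^ a * x⁻¹ ^ a = 1 := by rw [← mul_pow, mul_inv_cancel₀ hx, one_pow]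
    have h9 : aeval x B * (R.eval x * R.eval x⁻¹) = aeval x B := mul_left_cancel₀ hs (by
      linear_combination (-s * R.eval x⁻¹) * h5 x - x ^ a * x ^ N * h5 x⁻¹ - x ^ a * R.eval x⁻¹ * h1 x hx +
        x ^ N * aeval x⁻¹ A * h8 + h2 x hx)
    rw [h6 x hx]
    linear_combination x * x ^ R.natDegree * h9
  have h8 := sub_eq_zero.1 ((mul_eq_zero.1 h7).resolve_left
    (mul_ne_zero ((Polynomial.map_ne_zero_iff (RingHom.injective_int _)).2 hB) X_ne_zero))
  obtain ⟨b, -, v, hv⟩ := ((dvd_prime_pow prime_X _).1 (Dvd.intro _ h8)).imp fun b h => And.intro h.1 h.2.symm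
  obtain ⟨c, -, hc⟩ := Polynomial.isUnit_iff.1 v.isUnit
  have h9 := congrArg (eval 1) h8
  rw [eval_mul, h6 1 one_ne_zero, inv_one, one_pow, one_mul, eval_pow, eval_X, one_pow, ← hv, ← hc, eval_mul, eval_pow, eval_X,
    one_pow, one_mul, eval_C] at h9
  refine ⟨a, b, fun t => Int.cast_injective (α := ℚ) ?_⟩
  have h10 := h5 t
  rw [← hv, ← hc, eval_mul, eval_pow, eval_X, eval_C, ← aeval_eq, ← aeval_eq, eval_map_cast, eval_map_cast] at h10
  push_cast
  rw [h10]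
  linear_combination ((B.eval t : ℤ) * (t : ℚ) ^ b) ^ 2 * h9

theorem sym_Sm {W : Type} [Fintype W] (P : W → ℤ[X]) (σ : W → ℤ) (hσ : ∀ w, σ w * σ w = 1) {r : ℕ} {s x : ℚ}
    (hP : ∀ w, x ^ r * aeval x⁻¹ (P w) = s * σ w * aeval x (P w)) (m : W → ℤ) :
    x ^ (r * (Fintype.card W - 1)) * aeval x⁻¹ (Sm P m) =
      s ^ (Fintype.card W - 1) * (∏ w, σ w : ℤ) * aeval x (Sm P fun w => σ w * m w) := by
  classical
  rw [Sm, Sm, map_sum, map_sum, Finset.mul_sum, Finset.mul_sum]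
  refine Finset.sum_congr rfl fun w _ => ?_
  have h1 : (Finset.univ.erase w).card = Fintype.card W - 1 := by
    rw [Finset.card_erase_of_mem (Finset.mem_univ _), Finset.card_univ]
  have h2 : ((σ w : ℤ) : ℚ) * σ w = 1 := by exact_mod_cast hσ w
  have h3 := Finset.prod_congr (s₁ := Finset.univ.erase w) rfl fun v _ => hP v
  rw [Finset.prod_mul_distrib, Finset.prod_mul_distrib, Finset.prod_mul_distrib, Finset.prod_const, Finset.prod_const, h1,
    ← pow_mul] at h3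
  rw [map_mul, map_mul, map_prod, map_prod, aeval_C, aeval_C, ← Finset.mul_prod_erase _ _ (Finset.mem_univ w), mul_left_comm]
  simp only [algebraMap_int_eq, eq_intCast, Int.cast_mul, Int.cast_prod]
  rw [h3]
  generalize (∏ v ∈ Finset.univ.erase w, aeval x (P v)) = a
  generalize (∏ v ∈ Finset.univ.erase w, (σ v : ℚ)) = b
  linear_combination (-s ^ (Fintype.card W - 1) * b * m w * a) * h2

variable {R : Type} [Fintype R] [DecidableEq R]

/-- `det (X A - 1)` -/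
noncomputable def cp (A : Matrix R R ℤ) : ℤ[X] := ((X : ℤ[X]) • A.map C - 1).det

theorem cp_aeval {K : Type} [CommRing K] (A : Matrix R R ℤ) (x : K) :
    aeval x (cp A) = (x • A.map (Int.cast : ℤ → K) - 1).det := by
  rw [cp, AlgHom.map_det, map_sub, map_one]
  congr 2
  ext i j
  simp

theorem cp_eval (A : Matrix R R ℤ) (t : ℤ) : (cp A).eval t = (t • A - 1).det := by
  rw [← coe_aeval_eq_eval, cp_aeval]
  rfl

theorem cp_sym {A S : Matrix R R ℤ} (h : Aᵀ * S * A = S) (hS : S.det ≠ 0) (hA : A.det * A.det = 1) {x : ℚ} (hx : x ≠ 0) :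
    x ^ Fintype.card R * aeval x⁻¹ (cp A) = (-1) ^ Fintype.card R * A.det * aeval x (cp A) := by
  let φ := (Int.castRingHom ℚ).mapMatrix (m := R)
  have h1 : (φ A)ᵀ * φ S * φ A = φ S := by
    rw [show (φ A)ᵀ = φ Aᵀ from rfl, ← map_mul, ← map_mul, h]
  have h2 : ∀ B : Matrix R R ℤ, (φ B).det = B.det := fun B => ((Int.castRingHom ℚ).map_det B).symm
  have h3 : (φ A)ᵀ * φ S * (x • (x⁻¹ • φ A - 1)) = (-(x • φ A - 1))ᵀ * φ S := by
    rw [smul_sub, smul_smul, mul_inv_cancel₀ hx, one_smul, mul_sub, h1, neg_sub, transpose_sub, transpose_smul, transpose_one,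
      sub_mul, one_mul, mul_smul_comm, mul_one, smul_mul_assoc]
  have h4 := congrArg det h3
  rw [det_mul, det_mul, det_mul, det_transpose, det_transpose, det_smul, det_neg, h2, h2] at h4
  have h5 : ((A.det : ℤ) : ℚ) * A.det = 1 := by exact_mod_cast hA
  rw [cp_aeval, cp_aeval]
  refine mul_left_cancel₀ (Int.cast_ne_zero.2 hS : ((S.det : ℤ) : ℚ) ≠ 0) ?_
  change _ * (_ * (x⁻¹ • φ A - 1).det) = _ * (_ * (x • φ A - 1).det)
  linear_combination (A.det : ℚ) * h4 - (S.det : ℚ) * x ^ Fintype.card R * (x⁻¹ • φ A - 1).det * h5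

theorem exists_form {W : Type} [Group W] [Fintype W] (φ : W →* Matrix R R ℤ) :
    ∃ S : Matrix R R ℤ, S.det ≠ 0 ∧ ∀ w, (φ w)ᵀ * S * φ w = S := by
  refine ⟨∑ v, (φ v)ᵀ * φ v, fun h => ?_, fun w => ?_⟩
  · obtain ⟨y, h1, h2⟩ := exists_mulVec_eq_zero_iff.2 h
    have h3 : ∑ v, (φ v *ᵥ y) ⬝ᵥ (φ v *ᵥ y) = 0 := by
      rw [← dotProduct_zero y, ← h2, sum_mulVec, dotProduct_sum]
      exact Finset.sum_congr rfl fun v _ => by rw [← mulVec_mulVec, dotProduct_mulVec y, vecMul_transpose]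
    have h4 := (Finset.sum_eq_zero_iff_of_nonneg fun v _ => Finset.sum_nonneg fun i _ => mul_self_nonneg _).1 h3 1 (Finset.mem_univ _)
    rw [map_one, one_mulVec] at h4
    exact h1 (dotProduct_self_eq_zero.1 h4)
  · rw [Finset.mul_sum, Finset.sum_mul, ← Equiv.sum_comp (Equiv.mulRight w) fun v => (φ v)ᵀ * φ v]
    exact Finset.sum_congr rfl fun v _ => by
      rw [Equiv.coe_mulRight, map_mul, transpose_mul]
      simp only [mul_assoc]

theorem exists_pow {Q z : ℤ} (hQ : 1 < Q) {i j : ℕ} (h : z * Q ^ i = Q ^ j) : ∃ n, z = Q ^ n := by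
  rcases le_or_gt i j with h1 | h1
  · obtain ⟨n, rfl⟩ := Nat.exists_eq_add_of_le h1
    exact ⟨n, mul_right_cancel₀ (pow_ne_zero i (by omega)) (h.trans (by ring))⟩
  · obtain ⟨n, rfl⟩ := Nat.exists_eq_add_of_lt h1
    have h2 : Q * (z * Q ^ n) = 1 := mul_right_cancel₀ (pow_ne_zero j (zero_lt_one.trans hQ).ne') (by
      rw [one_mul]
      exact Eq.trans (by ring) h)
    have := Int.le_of_dvd one_pos (Dvd.intro _ h2)
    omega

end Cfsg.Agent.OM.Cas.Eig
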