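import Cfsg.Agent.OM.Cas.Defs
import Cfsg.Agent.OM.Cas.EigA
import Cfsg.Agent.KM.Deg.Ord
import Cfsg.Agent.LV.Lift.Main

/-!
# OM: the eigenvalues of the sum of the unipotent elements (helper51)
-/

set_option autoImplicit false
set_option linter.unusedSectionVars false

namespace Cfsg.Agent.OM.Cas

open Cfsg Cfsg.Agent.DL Cfsg.Agent.DL.PP Cfsg.Agent.DL.Uni Cfsg.Agent.DL.Asm Cfsg.Agent.Nodes.Reps Matrix
  Cfsg.Agent.Characters.Core Cfsg.Agent.KZ.Lie Polynomial Cfsg.Agent.LV.One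
open scoped ComplexConjugate

namespace Eig

variable {p : ℕ} [Fact p.Prime] {k : Type} [Field k] [CharP k p] {Y : Type} [Group Y] {N : Type} [Fintype N]
  [DecidableEq N] {ρ : Y →* GL N k} {F : MulAut Y} {G : Subgroup Y} [IsAlgClosed k] {D : Datum p ρ F G}

theorem usum_uni (S : Subgroup Y) [Fintype S] (χ : S → ℂ) :
    usum S {v | IsUni p v} χ = ∑ g, χ g * conj (res S (uniI p) g) := by
  refine Finset.sum_congr rfl fun g _ => ?_
  split_ifs with h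
  · rw [res_apply, uniI_of_uni h, map_one, mul_one]
  · rw [res_apply, uniI_of_not h, map_zero, mul_zero]

theorem gam (f : Fr D) [Fintype ↥(GF F G)] (χ : GF F G → ℂ) : usum (GF F G) {v | IsUni p v} χ =
    Nat.card (GF F G) * (Nat.card D.W : ℂ)⁻¹ * ∑ᶠ (w : D.W) (c : Lbl D), (ordT D w : ℂ)⁻¹ * classInner χ (RW f w c) := by
  have h0 : res (GF F G) (extendByZero (GF F G) χ) = χ := funext fun g => extendByZero_of_mem _ _ g.2
  have S := sys' D
  have h1 := ip_congr (f := extendByZero (GF F G) χ) (fun _ _ => rfl) (S.pconst_eq_usum pconst_uniI)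
  rw [S.ip_usum, sum_tori D _ (fun w => ∑ᶠ c : Lbl D, (ordT D w : ℂ)⁻¹ * classInner χ (RW f w c)) fun y hy w hw => ?_,
    ip_eq_classInner, h0] at h1
  · rw [usum_uni, mul_assoc, ← h1, classInner_def, mul_inv_cancel_left₀ card_ne_zero_complex]
  have := S.finT (cj y D.T)
  have := finite_hom (cj y D.T ⊓ GF F G)
  have := Fintype.ofFinite (↥(cj y D.T ⊓ GF F G) →* ℂˣ)
  have hT := KZ.Lie.mem_tori hy hw
  rw [← S.ip_rst hT, ip_congr (fun _ _ => rfl) (S.R_eq_sum_lin hT _), ip_sum_right,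
    ← sum_lab f hy hw (fun ψ => (ordT D w : ℂ)⁻¹ * classInner χ ψ) (by simp [classInner])]
  refine Finset.sum_congr rfl fun θ _ => ?_
  rw [ip_smul_right, ip_eq_classInner (H := GF F G), h0, ip_conj,
    ip_congr (fun _ _ => rfl) fun t ht => uniI_of_ss (S.ss _ hT t ht), ip_dl_right _ (one_mem _), (isLin_lin θ).one, mul_one,
    D.card_cj_TF hy hw, ordT]

theorem cp_lev {t : ℤ} (ht : 0 < t) (h : D.Mx = t • (1 : Matrix D.R D.R ℤ)) (w : D.W) :
    (cp (D.Wm w)).eval t = sgZ D w * ordT D w := by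
  rw [← Pw_one, Pw_eval', h, det_smul, det_one, mul_one, Int.sign_eq_one_of_pos (pow_pos ht _), one_mul, one_smul, mul_smul_comm,
    mul_one, cp_eval]

variable [Fintype D.W] (hq : D.QS) (f : Fr D) [Fintype ↥(GF F G)] {P : D.W → ℤ[X]} {t : ℤ}
  (hP : ∀ w, (P w).eval t = sgZ D w * ordT D w) {χ : GF F G → ℂ} {ε : ℂ} {m : D.W → ℤ}
  (hm : ∀ w, ∑ᶠ c, classInner χ (RW f w c) = ε * m w)
include hq hP hm

theorem lev_gam : usum (GF F G) {v | IsUni p v} χ * ((Sm P 1).eval t : ℤ) =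
    ε * pc p (GF F G) * ((Sm P fun w => sgZ D w * m w).eval t : ℤ) := by
  have h0 : ∀ w, (P w).eval t ≠ 0 := fun w => hP w ▸ mul_ne_zero
    (by rcases sgZ_sign D w with h | h <;> simp [h]) (Nat.cast_ne_zero.2 (ordT_ne w))
  have h2 : (Nat.card D.W : ℂ) ≠ 0 := Nat.cast_ne_zero.2 Nat.card_pos.ne'
  have h3 := congrArg (Int.cast : ℤ → ℂ) (lev_ord hq f hP).1
  have h1 := gam f χ
  rw [finsum_eq_sum_of_fintype, Finset.sum_congr rfl
    (g := fun w => ε * (((sgZ D w * m w : ℤ) : ℂ) / ((P w).eval t : ℤ))) fun w _ => by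
      have h4 : ((sgZ D w : ℤ) : ℂ) ≠ 0 := by rcases sgZ_sign D w with h | h <;> simp [h]
      rw [← mul_finsum, hm, hP, Int.cast_mul, Int.cast_mul, mul_div_mul_left _ _ h4, Int.cast_natCast]
      ring, ← Finset.mul_sum, ← pc_mul_pc' p, Nat.cast_mul] at h1
  rw [Sm_eval h0 fun w => sgZ D w * m w, h1]
  refine mul_left_cancel₀ h2 ?_
  rw [Int.cast_mul, Int.cast_mul, Int.cast_natCast, Int.cast_natCast] at h3
  generalize ∑ w, ((sgZ D w * m w : ℤ) : ℂ) / ((P w).eval t : ℤ) = z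
  linear_combination (-ε * pc p (GF F G) * z) * h3 +
    (pc p (GF F G) * pc' p (GF F G) * ε * z * ((Sm P 1).eval t : ℤ)) * mul_inv_cancel₀ h2

/-- one level -/
theorem lev_om (hχ : IsIrrCharacter (GF F G) χ) (hε : ε ≠ 0) : ∃ ω : ℤ, usum (GF F G) {v | IsUni p v} χ = ω * χ 1 ∧
    (Sm P m).eval t ≠ 0 ∧ ω * (Sm P m).eval t = pc p (GF F G) * (Sm P fun w => sgZ D w * m w).eval t := by
  have h1 := lev_gam hq f hP hm
  have h2 := lev_deg hq f hP hm
  have h3 := isIrr_apply_one_ne_zero hχ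
  have h4 : (((Sm P m).eval t : ℤ) : ℂ) ≠ 0 :=
    right_ne_zero_of_mul (h2 ▸ mul_ne_zero h3 (Int.cast_ne_zero.2 (lev_ord hq f hP).2))
  have h5 := LV.Blk.om_int hχ (isCls_iff.1 (pconst_uniI (p := p)).cls) fun g => by
    by_cases h : IsUni p (g : Y)
    · rw [res_apply, uniI_of_uni h]; exact isIntegral_one
    · rw [res_apply, uniI_of_not h]; exact isIntegral_zero
  rw [LV.Blk.om_eq, ← usum_uni] at h5
  have h6 : usum (GF F G) {v | IsUni p v} χ / χ 1 = algebraMap ℚ ℂ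
      ((pc p (GF F G) * (Sm P fun w => sgZ D w * m w).eval t : ℤ) / ((Sm P m).eval t : ℤ)) := by
    rw [map_div₀, map_intCast, map_intCast, div_eq_div_iff h3 h4, Int.cast_mul, Int.cast_natCast]
    refine mul_left_cancel₀ hε ?_
    linear_combination χ 1 * h1 - usum (GF F G) {v | IsUni p v} χ * h2
  rw [h6, isIntegral_algebraMap_iff (algebraMap ℚ ℂ).injective, IsIntegrallyClosed.isIntegral_iff] at h5
  obtain ⟨a, ha⟩ := h5
  rw [← ha, div_eq_iff h3] at h6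
  rw [eq_div_iff (by exact_mod_cast h4), algebraMap_int_eq, eq_intCast] at ha
  exact ⟨a, by simpa using h6, by exact_mod_cast h4, by exact_mod_cast ha⟩

omit hP hm [Fintype D.W] in
/-- the split case -/
theorem eig {e : ℕ} (he : 0 < e) (h : D.Mx = ((p : ℤ) ^ e) • (1 : Matrix D.R D.R ℤ)) (hχ : IsIrrCharacter (GF F G) χ) :
    ∃ j : ℕ, usum (GF F G) {v | IsUni p v} χ ^ 2 = ((p ^ e : ℕ) : ℂ) ^ j * χ 1 ^ 2 := by
  have hp : p.Prime := Fact.out
  have := Fintype.ofFinite D.W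
  obtain ⟨f⟩ := nonempty_fr D
  have hp' : (0 : ℤ) < p := Nat.cast_pos.2 hp.pos
  choose m hm using tot_int f (OddOrderCharacters.VChar.gen_of_irr hχ)
  obtain ⟨S, hS, hS'⟩ := exists_form D.WmHom
  have hσ : ∀ w, sgZ D w * sgZ D w = 1 := fun w => by rcases sgZ_sign D w with h | h <;> simp [h]
  have h1 : ∀ w, (cp (D.Wm w)).eval ((p : ℤ) ^ e) = sgZ D w * ordT D w := cp_lev (pow_pos hp' e) h
  have h2 : ∀ (l : ℕ) (hl : 0 < l) (w : D.W), (cp (D.Wm w)).eval ((p : ℤ) ^ (e * l)) =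
      sgZ (D.pow hl) w * ordT (D.pow hl) w := fun l hl => cp_lev (D := D.pow hl) (pow_pos hp' _) (by
    show D.Mx ^ l = _
    rw [h, _root_.smul_pow, one_pow, ← pow_mul])
  have key : ∀ m : D.W → ℤ, (Sm (fun w => cp (D.Wm w)) m).eval ((p : ℤ) ^ e) ≠ 0 →
      (∀ K : ℕ, ∃ j ν : ℕ, K < j ∧ (Sm (fun w => cp (D.Wm w)) m).eval ((p : ℤ) ^ j) ∣
        (p : ℤ) ^ ν * (Sm (fun w => cp (D.Wm w)) fun w => sgZ D w * m w).eval ((p : ℤ) ^ j)) →
      ∃ a b : ℕ, ∀ t : ℤ, (t ^ a * (Sm (fun w => cp (D.Wm w)) fun w => sgZ D w * m w).eval t) ^ 2 =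
        (t ^ b * (Sm (fun w => cp (D.Wm w)) m).eval t) ^ 2 := fun m h3 => by
    have h4 := fun (x : ℚ) (hx : x ≠ 0) => sym_Sm (fun w => cp (D.Wm w)) (sgZ D) hσ fun w => cp_sym (hS' w) hS (hσ w) hx
    refine mono hp (mul_ne_zero (pow_ne_zero _ (pow_ne_zero _ (neg_ne_zero.2 one_ne_zero))) (Int.cast_ne_zero.2
      (Finset.prod_ne_zero_iff.2 fun w _ => left_ne_zero_of_mul_eq_one (hσ w)))) (fun e => h3 (by rw [e, eval_zero]))
      (fun x hx => h4 x hx m) fun x hx => ?_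
    simpa only [← mul_assoc, hσ, one_mul] using h4 x hx fun w => sgZ D w * m w
  obtain ⟨ω, k1, k2, k3⟩ := lev_om hq f h1 (ε := 1) (m := m) (fun w => by rw [hm, one_mul]) hχ one_ne_zero
  obtain ⟨a, b, k4⟩ := key m k2 fun K => by
    obtain ⟨l, hl, _, f', χ', ε, h3, -, h4, h5, h6⟩ := LV.Lift.exists_lift f hχ K 1 one_ne_zero
    obtain ⟨ω', -, -, h7⟩ := lev_om (D := D.pow hl) (pow_QS hq hl) f' (h2 l hl) (ε := ε) (m := m)
      (fun w => by rw [finsum_congr (h6 w), ← mul_finsum, hm]) h4 (by rcases h5 with rfl | rfl <;> simp)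
    exact ⟨e * l, _, h3.trans_le (Nat.le_mul_of_pos_left _ he), Dvd.intro_left _ (h7.trans (congrArg (· * _) (Nat.cast_pow _ _)))⟩
  have k5 := (lev_ord hq f h1).2
  have e1 : (fun w => sgZ D w * (1 : D.W → ℤ) w) = sgZ D := funext fun w => mul_one _
  obtain ⟨a', b', k6⟩ := key 1 k5 fun K => ⟨e * (K + 1), 0, K.lt_succ_self.trans_le (Nat.le_mul_of_pos_left _ he), by
    rw [e1, pow_zero, one_mul]
    exact Dvd.intro_left _ (KM.Deg.lev_pc (D := D.pow K.succ_pos) (pow_QS hq _) (nonempty_fr _).some (h2 _ K.succ_pos))⟩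
  have k7 := KM.Deg.lev_pc hq f h1
  have k8 := k4 ((p : ℤ) ^ e)
  have k9 := k6 ((p : ℤ) ^ e)
  rw [e1, ← k7] at k9
  generalize (Sm (fun w => cp (D.Wm w)) 1).eval ((p : ℤ) ^ e) = B₁ at k5 k9
  generalize (Sm (fun w => cp (D.Wm w)) m).eval ((p : ℤ) ^ e) = B at k2 k3 k8
  generalize (Sm (fun w => cp (D.Wm w)) fun w => sgZ D w * m w).eval ((p : ℤ) ^ e) = A at k3 k8
  obtain ⟨j, hj⟩ := exists_pow (Q := (p : ℤ) ^ e) (z := ω ^ 2) (i := 2 * a + 2 * a') (j := 2 * b + 2 * b')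
    (one_lt_pow₀ (Nat.one_lt_cast.2 hp.one_lt) he.ne') (by
      generalize (p : ℤ) ^ e = Q at k8 k9
      refine mul_left_cancel₀ (mul_ne_zero (pow_ne_zero 2 k2) (pow_ne_zero 2 k5)) ?_
      linear_combination (B₁ * Q ^ a * Q ^ a') ^ 2 * (ω * B + pc p (GF F G) * A) * k3 +
        (B₁ * Q ^ a' * pc p (GF F G)) ^ 2 * k8 + (Q ^ b * B) ^ 2 * k9)
  refine ⟨j, ?_⟩
  rw [k1, mul_pow, ← Int.cast_pow, hj]
  push_cast
  rfl

end Eig

theorem boxGam : BoxGam := fun f _ _ χ => Eig.gam f χ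

theorem boxEig : BoxEig := by
  intro p _ k _ _ Y _ N _ _ ρ F G _ D d e hq H σ hσ
  have key : ∀ S : Subgroup Y, S = GF (F ^ d) G → ∀ [Fintype S] (ψ : S → ℂ), IsIrrCharacter S ψ →
      ∃ j : ℕ, usum S {v | IsUni p v} ψ ^ 2 = ((p ^ e : ℕ) : ℂ) ^ j * ψ 1 ^ 2 := by
    rintro _ rfl _ ψ hψ
    exact Eig.eig (D := D.pow H.d_pos) (pow_QS hq _) H.e_pos (D.Mx_pow H) hψ
  subst hσ
  intro _
  exact key (G ⊓ Mk.fix (F ^ d)) (Subgroup.ext fun _ => Iff.rfl)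

end Cfsg.Agent.OM.Cas
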