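import Cfsg.Agent.OM.Cas.Defs

/-!
# OM-Cas, the first order term of the generic operator (helper82)
-/

set_option autoImplicit false
set_option linter.unusedSectionVars false

namespace Cfsg.Agent.OM.Cas

open Cfsg.Agent.DL Polynomial CoxeterSystem Cfsg.Agent.Tits.Exchange Cfsg.Agent.Tits.Core

namespace Gen

variable {I W : Type} {M : CoxeterMatrix I} [Group W] {cs : CoxeterSystem M W} {P : Set W} {ε : W → I → Prop}

open Classical in
theorem rw_cons {R : Type} [CommRing R] (q : R) (i : I) (ω : List I) (φ : W → R) (w : W) :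
    Mk.Rw cs ε q (i :: ω) φ w = if cs.length w < cs.length (w * cs.simple i) then q * Mk.Rw cs ε q ω φ (w * cs.simple i)
      else Mk.Rw cs ε q ω φ (w * cs.simple i) +
        if ε (w * cs.simple i) i then (q - 1) * Mk.Rw cs ε q ω φ w else 0 := rfl

theorem rw_nil {R : Type} [CommRing R] (q : R) (φ : W → R) (w : W) : Mk.Rw cs ε q [] φ w = φ w := rfl

theorem lis_cons (i : I) (ω : List I) :
    cs.leftInvSeq (i :: ω) = cs.simple i :: List.map (MulAut.conj (cs.simple i)) (cs.leftInvSeq ω) := rfl

theorem eps (h : ∀ w i, ε w i ↔ w * cs.simple i * w⁻¹ ∈ P) (w : W) (i : I) :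
    ε (w * cs.simple i) i ↔ w * cs.simple i * w⁻¹ ∈ P := by
  rw [h, mul_inv_rev, cs.inv_simple, cs.simple_mul_simple_cancel_right, ← mul_assoc]

theorem val_one (ω : List I) (φ : W → ℂ[X]) (w : W) :
    (Mk.Rw cs ε X ω φ w).eval 1 = (φ (w * cs.wordProd ω)).eval 1 := by
  have h := Mk.Rw_map cs ε (evalRingHom (1 : ℂ)) X ω φ w
  simp only [coe_evalRingHom, eval_X] at h
  rw [h, Mk.Rw_one]

theorem asc_iff {u : W} (hu : cs.IsReflection u) {i : I} (h : u ≠ cs.simple i) (w : W) :
    cs.length (w * cs.simple i) < cs.length (w * cs.simple i * u) ↔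
      cs.length w < cs.length (w * (cs.simple i * u * (cs.simple i)⁻¹)) := by
  have h1 := nn_eq_one_iff cs (w := w * cs.simple i) hu
  have h2 := nn_eq_one_iff cs (w := w) (hu.conj (cs.simple i))
  rw [nn_mul, nn_simple, ind_of_ne h, zero_add, h2] at h1
  have h3 := hu.length_mul_left_ne (w * cs.simple i)
  have h4 := (hu.conj (cs.simple i)).length_mul_left_ne w
  omega

open Classical in
theorem der (h : ∀ w i, ε w i ↔ w * cs.simple i * w⁻¹ ∈ P) (φ : W → ℂ[X]) (ω : List I)
    (hω : (cs.leftInvSeq ω).Nodup) (w : W) :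
    (derivative (Mk.Rw cs ε X ω φ w)).eval 1 = (derivative (φ (w * cs.wordProd ω))).eval 1 +
      ((cs.leftInvSeq ω).map fun u => if cs.length w < cs.length (w * u) then (φ (w * cs.wordProd ω)).eval 1
        else if w * u * w⁻¹ ∈ P then (φ (w * u * cs.wordProd ω)).eval 1 else 0).sum := by
  induction ω generalizing w with
  | nil => simp [rw_nil]
  | cons i ω ih =>
    rw [lis_cons, List.nodup_cons] at hω
    have h1 := ih (List.Nodup.of_map _ hω.2) (w * cs.simple i)
    have h2 : ((cs.leftInvSeq ω).map fun u => if cs.length (w * cs.simple i) < cs.length (w * cs.simple i * u) then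
          (φ (w * cs.simple i * cs.wordProd ω)).eval 1
        else if w * cs.simple i * u * (w * cs.simple i)⁻¹ ∈ P then (φ (w * cs.simple i * u * cs.wordProd ω)).eval 1
        else 0) = ((cs.leftInvSeq ω).map (MulAut.conj (cs.simple i))).map fun u =>
          if cs.length w < cs.length (w * u) then (φ (w * cs.wordProd (i :: ω))).eval 1
          else if w * u * w⁻¹ ∈ P then (φ (w * u * cs.wordProd (i :: ω))).eval 1 else 0 := by
      rw [List.map_map]
      refine List.map_congr_left fun u hu => ?_
      have h3 : u ≠ cs.simple i := fun e => hω.1 (List.mem_map.2 ⟨u, hu, by rw [e, MulAut.conj_apply]; group⟩)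
      have e1 : w * cs.simple i * u * (w * cs.simple i)⁻¹ = w * (cs.simple i * u * (cs.simple i)⁻¹) * w⁻¹ := by group
      have e2 : w * cs.simple i * u * cs.wordProd ω =
          w * (cs.simple i * u * (cs.simple i)⁻¹) * (cs.simple i * cs.wordProd ω) := by group
      simp only [Function.comp, MulAut.conj_apply, wordProd_cons]
      rw [e1, e2, mul_assoc w (cs.simple i) (cs.wordProd ω)]
      exact if_congr (asc_iff (cs.isReflection_of_mem_leftInvSeq ω hu) h3 w) rfl rfl
    rw [h2] at h1
    have e3 : w * cs.simple i * cs.wordProd (i :: ω) = w * cs.wordProd ω := by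
      rw [wordProd_cons, ← mul_assoc, cs.simple_mul_simple_cancel_right]
    have e4 : w * cs.simple i * cs.wordProd ω = w * cs.wordProd (i :: ω) := by rw [wordProd_cons, mul_assoc]
    rw [rw_cons, lis_cons, List.map_cons, List.sum_cons, e3, eps h]
    rw [e4] at h1
    split_ifs
    · rw [derivative_mul, derivative_X, one_mul, eval_add, eval_mul, eval_X, one_mul, h1, val_one, e4]
      ring
    · rw [derivative_add, derivative_mul, eval_add, eval_add, eval_mul, eval_mul, h1, val_one]
      simp
      ring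
    · rw [add_zero, h1, zero_add]

theorem zero (h : ∀ w i, ε w i ↔ w * cs.simple i * w⁻¹ ∈ P) (q : ℂ) (φ : W → ℂ) (ω : List I) (A : Set W)
    (hA : ∀ t ∈ P, ∀ w ∈ A, t * w ∈ A) (h0 : ∀ w ∈ A, φ (w * cs.wordProd ω) = 0) (w : W) (hw : w ∈ A) :
    Mk.Rw cs ε q ω φ w = 0 := by
  induction ω generalizing A w with
  | nil => simpa [rw_nil] using h0 w hw
  | cons i ω ih =>
    have h1 := ih {x | x * cs.simple i ∈ A} (fun t ht x hx => by
      have := hA t ht _ hx
      rwa [← mul_assoc] at this) fun x hx => by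
      have := h0 _ hx
      rwa [wordProd_cons, ← mul_assoc, cs.simple_mul_simple_cancel_right] at this
    have h2 := h1 (w * cs.simple i) (by
      change w * cs.simple i * cs.simple i ∈ A
      rwa [cs.simple_mul_simple_cancel_right])
    rw [rw_cons, h2, eps h]
    split_ifs with h3 h4
    · rw [mul_zero]
    · rw [h1 w (by
        have := hA _ h4 w hw
        rwa [inv_mul_cancel_right] at this), mul_zero, add_zero]
    · rw [add_zero]

variable [Fintype W]

theorem mem_lis {ω : List I} (e : cs.wordProd ω = w0 cs) {t : W} : t ∈ cs.leftInvSeq ω ↔ cs.IsReflection t := by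
  refine ⟨cs.isReflection_of_mem_leftInvSeq ω, fun h1 => ?_⟩
  have h4 : nn cs (cs.wordProd ω.reverse) t = 1 := by
    rw [nn_eq_one_iff cs h1, wordProd_reverse, e, w0_inv]
    have h5 := length_w0_mul cs t
    have h6 := h1.odd_length.pos
    omega
  have h5 := mem_ris_of_nn cs h4
  rwa [rightInvSeq_reverse, List.mem_reverse] at h5

open Classical in
theorem sum_lis {ω : List I} (hω : cs.IsReduced ω) (e : cs.wordProd ω = w0 cs) (g : W → ℂ) (w : W) :
    ((cs.leftInvSeq ω).map g).sum = ∑ t : W, if cs.IsReflection t then g (w⁻¹ * t * w) else 0 := by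
  rw [← List.sum_toFinset g hω.nodup_leftInvSeq, ← Equiv.sum_comp (MulAut.conj w).toEquiv]
  have : (cs.leftInvSeq ω).toFinset = Finset.univ.filter fun t => cs.IsReflection t :=
    Finset.ext fun t => by simp [mem_lis e]
  rw [this, Finset.sum_filter]
  refine Finset.sum_congr rfl fun t _ => ?_
  have e1 : w⁻¹ * (w * t * w⁻¹) * w = t := by group
  change _ = if cs.IsReflection (w * t * w⁻¹) then g (w⁻¹ * (w * t * w⁻¹) * w) else 0
  rw [isReflection_conj_iff, e1]

open Classical in
theorem der0 (h : ∀ w i, ε w i ↔ w * cs.simple i * w⁻¹ ∈ P) {ω : List I} (hω : cs.IsReduced ω)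
    (e : cs.wordProd ω = w0 cs) (φ : W → ℂ[X]) (w : W) :
    (derivative (Mk.Rw cs ε X ω φ w)).eval 1 = (derivative (φ (w * w0 cs))).eval 1 +
      ∑ t : W, if cs.IsReflection t then (if cs.length w < cs.length (t * w) then (φ (w * w0 cs)).eval 1
        else if t ∈ P then (φ (t * w * w0 cs)).eval 1 else 0) else 0 := by
  rw [der h φ ω hω.nodup_leftInvSeq, sum_lis hω e _ w, e]
  refine congrArg _ (Finset.sum_congr rfl fun t _ => ?_)
  have e1 : w * (w⁻¹ * t * w) = t * w := by group
  rw [e1, mul_inv_cancel_right]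

end Gen

open Gen

/-- **[GEN]** -/
theorem boxGen : BoxGen := by
  classical
  intro I W M _ _ cs P ε h ω hω hl
  have e : cs.wordProd ω = w0 cs := eq_w0_of_length cs (by rw [hω.eq]; exact hl _)
  have e0 : ∀ w : W, w * w0 cs * w0 cs = w := fun w => by rw [mul_assoc, w0_mul_self, mul_one]
  refine ⟨fun φ w => ⟨by rw [val_one, val_one, e, e0], ?_⟩, fun A hA φ h0 q w hw => ?_⟩
  · have h1 := sum_lis hω e (fun _ => (φ w).eval 1) 1
    rw [List.map_const', List.sum_replicate, length_leftInvSeq, nsmul_eq_mul] at h1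
    rw [der0 h hω e, der0 h hω e, e0, h1, add_assoc, add_assoc, ← Finset.sum_add_distrib, ← Finset.sum_add_distrib]
    refine congrArg _ (Finset.sum_congr rfl fun t _ => ?_)
    simp only [val_one, e, e0, ← mul_assoc]
    by_cases ht : cs.IsReflection t
    · have h2 := length_mul_w0 cs w
      have h3 := length_mul_w0 cs (t * w)
      have h4 := ht.length_mul_right_ne w
      by_cases h5 : cs.length w < cs.length (t * w)
      · have h6 : ¬ cs.length (w * w0 cs) < cs.length (t * w * w0 cs) := by omega
        simp [ht, h5, h6, add_comm]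
      · have h6 : cs.length (w * w0 cs) < cs.length (t * w * w0 cs) := by omega
        simp [ht, h5, h6]
    · simp [ht]
  · refine zero h q _ ω A hA (fun x hx => ?_) w hw
    refine zero h q φ ω {x | x * w0 cs ∈ A} (fun t ht x hx => ?_) (fun x hx => ?_) _ ?_
    · have := hA t ht _ hx
      rwa [← mul_assoc] at this
    · rw [e]; exact h0 _ hx
    · change x * cs.wordProd ω * w0 cs ∈ A
      rwa [e, e0]

end Cfsg.Agent.OM.Cas
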