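import Cfsg.Agent.DL.St.Cell
import Cfsg.Agent.DL.Mk.Efin
import Cfsg.Agent.DL.Uni.Jordan
import Cfsg.Agent.H115.Bru

/-!
# OM, the unipotent elements in the double cosets of `U`: the count in a split `(B,N)`-pair (helper4)
-/

set_option autoImplicit false
set_option maxHeartbeats 400000
set_option linter.unusedSectionVars false

namespace Cfsg.Agent.OM.Cas.Kaw

open Cfsg.Agent.DL Cfsg.Agent.DL.Mk Cfsg.Agent.DL.St Cfsg.Agent.DL.Uni Cfsg.Agent.Tits.Core Cfsg.Agent.Tits.Exchange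

open Classical in
/-- the truth value of a proposition -/
noncomputable def ic (P : Prop) : ℂ := if P then 1 else 0

theorem ic_pos {P : Prop} (h : P) : ic P = 1 := if_pos h

theorem ic_neg {P : Prop} (h : ¬ P) : ic P = 0 := if_neg h

theorem ic_congr {P Q : Prop} (h : P ↔ Q) : ic P = ic Q := by rw [propext h]

theorem ic_and (P Q : Prop) : ic (P ∧ Q) = ic P * ic Q := by
  by_cases hP : P <;> by_cases hQ : Q <;> simp [ic, hP, hQ]

theorem ic_not (P : Prop) : ic (¬ P) = 1 + -ic P := by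
  by_cases hP : P <;> simp [ic, hP]

theorem ic_all {I : Type*} (K : Finset I) (P : I → Prop) : ic (∀ i ∈ K, P i) = ∏ i ∈ K, ic (P i) := by
  classical
  unfold ic
  rw [Finset.prod_boole]
  congr

theorem alt_ic {I : Type*} (J : Finset I) (P : I → Prop) :
    ∑ K ∈ J.powerset, (-1) ^ K.card * ic (∀ i ∈ K, P i) = ic (∀ i ∈ J, ¬ P i) := by
  classical
  simp only [ic_all, ic_not]
  rw [Finset.prod_one_add]
  exact Finset.sum_congr rfl fun K _ => by rw [Finset.prod_neg]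

theorem moebius {I : Type*} [Fintype I] [DecidableEq I] (f : Finset I → ℂ) :
    ∑ J : Finset I, (-1) ^ J.card * ∑ K ∈ J.powerset, (-1) ^ K.card * f K = f Finset.univ := by
  have h1 : ∀ K : Finset I, ∑ J : Finset I, (-1) ^ J.card * ic (K ⊆ J) = (-1) ^ K.card * ic (K = Finset.univ) := fun K => by
    have h2 := alt_ic Finset.univ (· ∉ K)
    rw [Finset.powerset_univ] at h2
    rw [← (Function.Involutive.bijective (compl_compl (α := Finset I))).sum_comp,
      Finset.sum_congr rfl fun J _ => show _ = (-1) ^ Fintype.card I * ((-1) ^ J.card * ic (∀ i ∈ J, i ∉ K)) from ?_,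
      ← Finset.mul_sum, h2]
    · by_cases h : K = Finset.univ
      · simp [h, ic]
      · rw [ic_neg h, ic_neg fun h3 => h (Finset.eq_univ_of_forall fun i => by simpa using h3 i), mul_zero, mul_zero]
    · rw [← Finset.card_compl_add_card J, pow_add, mul_assoc, ← mul_assoc ((-1) ^ J.card), ← mul_pow, neg_one_mul,
        neg_neg, one_pow, one_mul, ic_congr (P := K ⊆ Jᶜ) (Q := ∀ i ∈ J, i ∉ K)
        ⟨fun h i hi hK => Finset.mem_compl.1 (h hK) hi, fun h i hK => Finset.mem_compl.2 fun hi => h i hi hK⟩]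
  have h3 : ∀ J : Finset I, ∑ K ∈ J.powerset, (-1) ^ K.card * f K = ∑ K : Finset I, ic (K ⊆ J) * ((-1) ^ K.card * f K) :=
    fun J => by
      rw [← Finset.sum_subset (Finset.subset_univ J.powerset) fun K _ h => by
        rw [ic_neg (by simpa using h), zero_mul]]
      exact Finset.sum_congr rfl fun K h => by rw [ic_pos (Finset.mem_powerset.1 h), one_mul]
  simp only [h3, Finset.mul_sum, ← mul_assoc]
  rw [Finset.sum_comm]
  simp only [← Finset.sum_mul, h1]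
  rw [Finset.sum_eq_single Finset.univ (fun K _ h => by rw [ic_neg h]; ring) (by simp), ic_pos rfl, mul_one, ← mul_pow,
    neg_one_mul, neg_neg, one_pow, one_mul]

variable {I W Y : Type} [Group W] [Group Y] {M : CoxeterMatrix I}

theorem sum_sub {H G : Subgroup Y} [Fintype G] [Fintype H] (h : H ≤ G) (f : Y → ℂ) :
    ∑ x : G, ic ((x : Y) ∈ H) * f x = ∑ x : H, f x :=
  (Finset.sum_of_injOn (Subgroup.inclusion h) (Subgroup.inclusion_injective h).injOn (fun _ _ => Finset.mem_univ _)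
    (fun x _ h1 => by rw [ic_neg fun h2 => h1 ⟨⟨x, h2⟩, Finset.mem_coe.2 (Finset.mem_univ _), rfl⟩, zero_mul])
    fun x _ => by rw [Subgroup.coe_inclusion, ic_pos x.2, one_mul]).symm

theorem sum_coset {H G : Subgroup Y} [Fintype G] (h : H ≤ G) {a : Y} (ha : a ∈ G) :
    ∑ x : G, ic (a⁻¹ * x ∈ H) = Nat.card H := by
  have := @Fintype.ofFinite _ (Finite.of_injective _ (Subgroup.inclusion_injective h))
  have h1 := sum_sub h fun _ => 1
  simp only [mul_one, Finset.sum_const, Finset.card_univ, nsmul_eq_mul] at h1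
  rw [sum_mul_left (K := G) (fun x => ic (x ∈ H)) (inv_mem ha), h1, Nat.card_eq_fintype_card]

theorem sum_coset' {H G : Subgroup Y} [Fintype G] (h : H ≤ G) {a : Y} (ha : a ∈ G) :
    ∑ x : G, ic ((x : Y)⁻¹ * a ∈ H) = Nat.card H := by
  rw [← sum_coset h ha]
  exact Finset.sum_congr rfl fun x _ => ic_congr (by rw [← inv_mem_iff, mul_inv_rev, inv_inv])

theorem card_ne {H G : Subgroup Y} [Finite G] (h : H ≤ G) : (Nat.card H : ℂ) ≠ 0 :=
  have := Finite.of_injective _ (Subgroup.inclusion_injective h)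
  Nat.cast_ne_zero.2 Nat.card_pos.ne'

theorem exists_conj {p : ℕ} [hp : Fact p.Prime] {U P G : Subgroup Y} [Finite G] (h1 : U ≤ P) (h2 : P ≤ G)
    (h : Nat.card U = p ^ (Nat.card G).factorization p) {g : Y} (hg : g ∈ P) (hu : IsUni p g) :
    ∃ q ∈ P, q * g * q⁻¹ ∈ U := by
  have := Finite.of_injective _ (Subgroup.inclusion_injective h2)
  have h3 : Nat.card (U.subgroupOf P) = p ^ (Nat.card P).factorization p := by
    rw [Nat.card_congr (Subgroup.subgroupOfEquivOfLe h1).toEquiv, h]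
    refine congrArg _ (le_antisymm ?_ ?_)
    · rw [← hp.out.pow_dvd_iff_le_factorization Nat.card_pos.ne', ← h]
      exact Subgroup.card_dvd_of_le h1
    · exact (Nat.factorization_le_iff_dvd Nat.card_pos.ne' Nat.card_pos.ne').2 (Subgroup.card_dvd_of_le h2) p
  obtain ⟨k, hk⟩ := hu
  obtain ⟨Q, hQ⟩ := (IsPGroup.of_card (G := Subgroup.zpowers (⟨g, hg⟩ : P)) (p := p) (n := k)
    (by rw [Nat.card_zpowers, ← hk, ← Subgroup.orderOf_coe])).exists_le_sylow
  obtain ⟨x, hx⟩ := MulAction.exists_smul_eq P Q (Sylow.ofCard _ h3)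
  have h4 := Subgroup.smul_mem_pointwise_smul _ (MulAut.conj x) _ (hQ (Subgroup.mem_zpowers _))
  rw [← Sylow.coe_subgroup_smul, hx] at h4
  exact ⟨x, x.2, h4⟩

variable {cs : CoxeterSystem M W} {G U T N : Subgroup Y} {π : Y → W} {n : I → Y} {X : I → Subgroup Y}

/-- the unipotent radicals of the standard parabolic subgroups -/
structure Rd (cs : CoxeterSystem M W) (U N : Subgroup Y) (π : Y → W) (V : Set I → Subgroup Y) : Prop where
  le : ∀ J, V J ≤ U
  nU : ∀ J, ∀ u ∈ U, ∀ v ∈ V J, u * v * u⁻¹ ∈ V J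
  nN : ∀ J, ∀ a ∈ N, π a ∈ WJ cs J → ∀ v ∈ V J, a * v * a⁻¹ ∈ V J
  dec : ∀ J, ∀ u ∈ U, ∃ v ∈ V J, ∀ a ∈ N, IsMinR cs J (π a) → a * (v⁻¹ * u) * a⁻¹ ∈ U
  top : ∀ J, ∀ a ∈ N, π a = wJ cs J → ∀ v ∈ U, a⁻¹ * v * a ∈ U → v ∈ V J
  triv : ∀ v ∈ V Set.univ, v = 1

/-- the order of the cell of the longest element of a parabolic subgroup -/
noncomputable def cc (cs : CoxeterSystem M W) (G U N : Subgroup Y) [Fintype G] (π : Y → W) (J : Set I) : ℂ :=
  ∑ y : G, ic (cl U N π y = wJ cs J)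

variable (S : SBN cs G U T N π n X) [Fintype G]

/-- the Steinberg character of a standard parabolic subgroup -/
noncomputable def st (J : Finset I) (g : Y) : ℂ :=
  ∑ K ∈ J.powerset, (-1) ^ K.card *
    ((Nat.card (Par S K) : ℂ)⁻¹ * ∑ x : G, ic ((x : Y) ∈ Par S J ∧ (x : Y)⁻¹ * g * x ∈ Par S K))

theorem st_conj {J : Finset I} {q : Y} (hq : q ∈ Par S J) (g : Y) : st S J (q * g * q⁻¹) = st S J g := by
  refine Finset.sum_congr rfl fun K _ => ?_
  rw [← sum_mul_left (K := G) (fun x => ic (x ∈ Par S J ∧ x⁻¹ * (q * g * q⁻¹) * x ∈ Par S K)) hq.1]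
  simp [mul_assoc, mul_mem_cancel_left hq]

theorem st_zero {J : Finset I} {g : Y} (hg : g ∉ Par S J) : st S J g = 0 :=
  Finset.sum_eq_zero fun K hK => by
    rw [Finset.sum_eq_zero fun x _ => ic_neg fun h => hg (by
      simpa [mul_assoc] using mul_mem (mul_mem h.1 (Par_mono S (Finset.coe_subset.2 (Finset.mem_powerset.1 hK)) h.2))
        (inv_mem h.1)), mul_zero, mul_zero]

theorem gate (K : Set I) {f : Y → ℂ} (hf : ∀ x ∈ G, ∀ q ∈ Par S K, f (x * q) = f x) :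
    (Nat.card (Par S K) : ℂ)⁻¹ * ∑ x : G, f x =
      (Nat.card (Par S ∅) : ℂ)⁻¹ * ∑ y : G, ic (IsMinR cs K (cl U N π y)) * f y := by
  have h1 : ∀ x : G, ∑ y : G, ic (IsMinR cs K (cl U N π y)) * (ic ((x : Y)⁻¹ * y ∈ Par S K) * f x) =
      Nat.card (Par S ∅) * f x := fun x => by
    obtain ⟨z, hz, h2, h3⟩ := exists_gate S K x.2
    have h4 : IsMinR cs K (cl U N π z) := h3 ▸ isMinR_mn K _
    rw [← sum_coset (Par_le S ∅) hz, Finset.sum_mul]
    refine Finset.sum_congr rfl fun y _ => ?_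
    rw [← mul_assoc, ← ic_and, ic_congr (Q := z⁻¹ * y ∈ Par S ∅) ⟨fun h => gate_uniq S hz
      (by simpa [mul_assoc] using mul_mem (inv_mem h2) h.2) h4 h.1, fun h => ⟨by rwa [cl_eq_of_B S hz h], by
        simpa [mul_assoc] using mul_mem h2 (Par_mono S (Set.empty_subset K) h)⟩⟩]
  have h2 : ∀ y : G, ∑ x : G, ic ((x : Y)⁻¹ * y ∈ Par S K) * f x = Nat.card (Par S K) * f y := fun y => by
    rw [← sum_coset' (Par_le S K) y.2, Finset.sum_mul]
    refine Finset.sum_congr rfl fun x _ => ?_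
    by_cases h : (x : Y)⁻¹ * y ∈ Par S K
    · rw [← hf x x.2 _ h, mul_inv_cancel_left]
    · rw [ic_neg h, zero_mul, zero_mul]
  have h3 := Finset.sum_congr rfl fun (x : G) (_ : x ∈ Finset.univ) => h1 x
  rw [Finset.sum_comm, ← Finset.mul_sum] at h3
  simp only [← Finset.mul_sum, h2, mul_left_comm _ (Nat.card (Par S K) : ℂ)] at h3
  rw [inv_mul_eq_iff_eq_mul₀ (card_ne (Par_le S K)), mul_left_comm, h3, inv_mul_cancel_left₀ (card_ne (Par_le S ∅))]

variable [Finite W]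

theorem st_U (J : Finset I) {v : Y} (hv : v ∈ U) : st S J v =
    (Nat.card (Par S ∅) : ℂ)⁻¹ * ∑ y : G, ic (cl U N π y = wJ cs J) * ic ((y : Y)⁻¹ * v * y ∈ Par S ∅) := by
  have h1 : ∀ K ∈ J.powerset, (Nat.card (Par S K) : ℂ)⁻¹ * ∑ x : G, ic ((x : Y) ∈ Par S J ∧ (x : Y)⁻¹ * v * x ∈ Par S K) =
      _ := fun K hK => gate S K (f := fun x => ic (x ∈ Par S J ∧ x⁻¹ * v * x ∈ Par S K)) fun x _ q hq => ic_congr (by
    rw [mul_mem_cancel_right (Par_mono S (Finset.coe_subset.2 (Finset.mem_powerset.1 hK)) hq), mul_inv_rev, ← mul_assoc,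
      mul_mem_cancel_right hq, mul_assoc, mul_assoc, mul_mem_cancel_left (inv_mem hq), mul_assoc])
  rw [st, Finset.sum_congr rfl fun K hK => by rw [h1 K hK, mul_left_comm, Finset.mul_sum], ← Finset.mul_sum,
    Finset.sum_comm]
  refine congrArg _ (Finset.sum_congr rfl fun y _ => ?_)
  have h2 := @H115.Bru.eq_longest_iff _ _ _ _ cs _ _ (cl U N π y) (isLongest_wJ cs (J : Set I))
  rw [ic_congr (P := cl U N π y = wJ cs J) (Q := (y : Y) ∈ Par S J ∧
      ∀ i ∈ J, ¬ cs.length (cl U N π y) < cs.length (cl U N π y * cs.simple i))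
    ⟨fun e => ⟨⟨y.2, e ▸ (isLongest_wJ cs _).mem⟩, (h2 (e ▸ (isLongest_wJ cs _).mem)).1 e⟩, fun e => (h2 e.1.2).2 e.2⟩,
    ic_and, ← alt_ic, Finset.mul_sum, Finset.sum_mul]
  refine Finset.sum_congr rfl fun K _ => ?_
  rw [mul_left_comm (ic _), mul_assoc ((-1 : ℂ) ^ _), ← ic_and, ← ic_and, ← ic_and]
  refine congrArg _ (ic_congr ⟨fun h => ⟨⟨h.2.1, (isMinR_iff cs).1 h.1⟩, ?_⟩, fun h =>
    ⟨(isMinR_iff cs).2 h.1.2, h.1.1, Par_mono S (Set.empty_subset _) h.2⟩⟩)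
  rw [mul_assoc] at h ⊢
  exact gate_uniq S y.2 h.2.2 h.1 (by rw [cl_U_mul S hv y.2]; exact h.1)

variable {V : Set I → Subgroup Y} (R : Rd cs U N π V)

include R

theorem V_norm {J : Set I} {q v : Y} (hq : q ∈ Par S J) (hv : v ∈ V J) : q * v * q⁻¹ ∈ V J := by
  obtain ⟨a, ha, h⟩ := exists_dc S hq.1
  have h1 := cl_eq S ha h ▸ hq.2
  obtain ⟨u, hu, u', hu', rfl⟩ := h
  simpa [mul_assoc] using R.nU J u hu _ (R.nN J a ha h1 _ (R.nU J u' hu' v hv))

theorem V_iff {J : Set I} {q v : Y} (hq : q ∈ Par S J) : q * v * q⁻¹ ∈ V J ↔ v ∈ V J :=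
  ⟨fun h => by simpa [mul_assoc] using V_norm S R (inv_mem hq) h, V_norm S R hq⟩

theorem top_iff {J : Set I} {y v : Y} (hy : y ∈ G) (h : cl U N π y = wJ cs J) (hv : v ∈ U) :
    y⁻¹ * v * y ∈ Par S ∅ ↔ v ∈ V J := by
  refine ⟨fun h1 => ?_, fun h1 => U_le_Par S _ (R.le J (by
    simpa using V_norm S R (inv_mem (show y ∈ Par S J from ⟨hy, h ▸ (isLongest_wJ cs J).mem⟩)) h1))⟩
  obtain ⟨a, ha, h2⟩ := exists_dc S hy
  rw [cl_eq S ha h2] at h
  obtain ⟨u, hu, u', hu', rfl⟩ := h2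
  have h3 : u⁻¹ * v * u ∈ U := mul_mem (mul_mem (inv_mem hu) hv) hu
  simpa [mul_assoc] using R.nU J u hu _ (R.top J a ha h _ h3 (mem_U_of_conj S ha h3 (by
    simpa [mul_assoc] using mul_mem (mul_mem (U_le_Par S ∅ hu') h1) (inv_mem (U_le_Par S ∅ hu')))))

variable [Fintype U]

theorem card_top (J : Set I) :
    cc cs G U N π J * Nat.card (V J) = Nat.card U * Nat.card (Par S ∅) := by
  have ha := S.lift_mem (wJ cs J)
  have h0 : cl U N π (lift cs n (wJ cs J)) = wJ cs J := by rw [cl_N S ha, S.π_lift]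
  have h1 := Finset.sum_congr rfl fun (u : U) (_ : u ∈ Finset.univ) =>
    sum_coset (Par_le S ∅) (mul_mem (S.U_le u.2) (S.N_le ha))
  rw [Finset.sum_const, Finset.card_univ, nsmul_eq_mul, ← Nat.card_eq_fintype_card, Finset.sum_comm] at h1
  rw [← h1, cc, Finset.sum_mul]
  refine Finset.sum_congr rfl fun y _ => ?_
  by_cases h : cl U N π y = wJ cs J
  · obtain ⟨b, hb, h2⟩ := exists_dc S y.2
    rw [ic_pos h, one_mul]
    rw [cl_eq S hb h2] at h
    obtain ⟨u, hu, u', hu', e⟩ := h2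
    rw [← sum_coset' (R.le J) hu]
    refine Finset.sum_congr rfl fun x _ => ic_congr ?_
    rw [← top_iff S R (S.N_le ha) h0 (mul_mem (inv_mem x.2) hu), ← mul_mem_cancel_right (mul_mem
      (T_le_Par S ∅ (S.mem_T_of_π_eq' ha hb ((S.π_lift _).trans h.symm))) (U_le_Par S ∅ hu')), e]
    simp [mul_assoc]
  · rw [ic_neg h, zero_mul]
    exact (Finset.sum_eq_zero fun u _ => ic_neg fun h2 => h (by
      rw [cl_eq_of_B S (mul_mem (S.U_le u.2) (S.N_le ha)) h2, cl_U_mul S u.2 (S.N_le ha), h0])).symm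

variable {p : ℕ} [Fact p.Prime] (hp : IsPGroup p U) (hS : Nat.card U = p ^ (Nat.card G).factorization p)

include hS in
theorem st_uni (J : Finset I) {g : Y} (hg : IsUni p g) : st S J g =
    (Nat.card (Par S ∅) : ℂ)⁻¹ * cc cs G U N π J * ic (g ∈ V J) := by
  by_cases h : g ∈ Par S J
  · obtain ⟨q, hq, h1⟩ := exists_conj (U_le_Par S J) (Par_le S J) hS h hg
    rw [← st_conj S hq, st_U S J h1, ← ic_congr (V_iff S R hq), mul_assoc (_⁻¹ : ℂ), cc, Finset.sum_mul]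
    refine congrArg _ (Finset.sum_congr rfl fun y _ => ?_)
    rw [← ic_and, ← ic_and]
    exact ic_congr (and_congr_right fun h2 => top_iff S R y.2 h2 h1)
  · rw [st_zero S h, ic_neg fun h1 => h (U_le_Par S _ (R.le _ h1)), mul_zero]

variable [Fintype I] [DecidableEq I]

include hp hS in
/-- the characteristic function of the unipotent set -/
theorem ic_uni {g : Y} (hg : g ∈ G) : ic (IsUni p g) = ∑ J : Finset I, (-1) ^ J.card *
    ((Nat.card (Par S ∅) : ℂ)⁻¹ * cc cs G U N π J *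
      ((Nat.card (Par S J) : ℂ)⁻¹ * ∑ x : G, ic ((x : Y)⁻¹ * g * x ∈ V J))) := by
  by_cases h : IsUni p g
  swap
  · rw [ic_neg h]
    refine (Finset.sum_eq_zero fun J _ => ?_).symm
    rw [Finset.sum_eq_zero (s := Finset.univ) (f := fun x : G => ic ((x : Y)⁻¹ * g * x ∈ V J)) fun x _ => ic_neg fun h1 => h ?_,
      mul_zero, mul_zero, mul_zero]
    obtain ⟨k, hk⟩ := IsPGroup.iff_orderOf.1 hp ⟨_, R.le _ h1⟩
    simpa [mul_assoc] using IsUni.conj ⟨k, (Subgroup.orderOf_mk _ _).symm.trans hk⟩ (x : Y)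
  have h1 := moebius fun K : Finset I => (Nat.card (Par S K) : ℂ)⁻¹ * ∑ x : G, ic ((x : Y)⁻¹ * g * x ∈ Par S K)
  have h2 : ∀ x ∈ G, x ∈ Par S (Finset.univ : Finset I) := fun x hx => ⟨hx, by
    rw [Finset.coe_univ]; exact mem_WJ_univ cs _⟩
  rw [Finset.sum_congr rfl fun (x : G) _ => ic_pos (h2 _ (mul_mem (mul_mem (inv_mem x.2) hg) x.2)),
    ← sum_coset (Par_le S _) (one_mem G), Finset.sum_congr rfl fun (x : G) _ => ic_pos (h2 _ (mul_mem (inv_mem (one_mem G)) x.2)),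
    Finset.sum_const, Finset.card_univ, nsmul_eq_mul, mul_one, inv_mul_cancel₀ (Mk.card_ne_zero G)] at h1
  refine (ic_pos h).trans (h1.symm.trans (Finset.sum_congr rfl fun J _ => congrArg _ ?_))
  rw [mul_left_comm, Finset.mul_sum (a := (Nat.card (Par S ∅) : ℂ)⁻¹ * _), Finset.sum_congr rfl fun (x : G) _ =>
    (st_uni S R hS J (by simpa using h.conj (x : Y)⁻¹)).symm, eq_inv_mul_iff_mul_eq₀ (card_ne (Par_le S J))]
  simp only [st]
  rw [Finset.sum_comm, Finset.mul_sum]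
  refine Finset.sum_congr rfl fun K _ => ?_
  rw [← Finset.mul_sum, ← Finset.mul_sum, Finset.sum_comm, mul_left_comm, mul_left_comm (Nat.card (Par S J) : ℂ),
    ← sum_coset (Par_le S J) (one_mem G), Finset.sum_mul]
  refine congrArg _ (congrArg _ (Finset.sum_congr rfl fun y _ => ?_))
  rw [← sum_mul_right (K := G) (fun x => ic (x⁻¹ * g * x ∈ Par S K)) y.2, Finset.mul_sum]
  simp [ic_and, mul_assoc]

variable {κ : Y → ℂ} (hκ : Bi U κ)

include hκ

theorem sum_V {J : Set I} [Fintype (V J)] {y : Y} (hy : y ∈ G) (h : IsMinR cs J (cl U N π y)) :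
    cc cs G U N π J * ∑ v : V J, κ (y * v * y⁻¹) =
      Nat.card (Par S ∅) * ∑ u : U, κ (y * u * y⁻¹) := by
  obtain ⟨a, ha, h1⟩ := exists_dc S hy
  rw [cl_eq S ha h1] at h
  obtain ⟨u₀, hu₀, u₁, hu₁, rfl⟩ := h1
  have h2 : ∀ u ∈ U, ∑ v : V J, κ (u₀ * a * u₁ * (u * v) * (u₀ * a * u₁)⁻¹) = ∑ v : V J, κ (a * v * a⁻¹) := fun u hu => by
    obtain ⟨v₁, h3, h4⟩ := R.dec J _ (inv_mem (mul_mem hu₁ hu))
    obtain ⟨v₂, h5, h6⟩ := R.dec J _ (inv_mem hu₁)
    rw [← sum_mul_lr (K := V J) (fun v => κ (a * v * a⁻¹)) (inv_mem h3) h5]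
    refine Finset.sum_congr rfl fun v _ => ?_
    rw [← hκ.left _ (mul_mem hu₀ (inv_mem (h4 a ha h))) (a * _ * a⁻¹), ← hκ.right _ (mul_mem (h6 a ha h) (inv_mem hu₀))
      (_ * (a * _ * a⁻¹))]
    congr 1
    group
  have h3 : ∑ v : V J, ∑ u : U, κ (u₀ * a * u₁ * (u * v) * (u₀ * a * u₁)⁻¹) =
      Nat.card (V J) * ∑ u : U, κ (u₀ * a * u₁ * u * (u₀ * a * u₁)⁻¹) := by
    rw [Finset.sum_congr rfl fun (v : V J) _ => sum_mul_right (K := U)
      (fun u => κ (u₀ * a * u₁ * u * (u₀ * a * u₁)⁻¹)) (R.le J v.2), Finset.sum_const, Finset.card_univ, nsmul_eq_mul,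
      Nat.card_eq_fintype_card]
  have h4 := h2 1 (one_mem _)
  simp only [one_mul] at h4
  rw [Finset.sum_comm, Finset.sum_congr rfl fun (u : U) _ => h2 u u.2, Finset.sum_const, Finset.card_univ, nsmul_eq_mul,
    ← Nat.card_eq_fintype_card, ← h4] at h3
  refine mul_left_cancel₀ (card_ne (le_refl U)) ?_
  linear_combination cc cs G U N π J * h3 +
    (∑ u : U, κ (u₀ * a * u₁ * u * (u₀ * a * u₁)⁻¹)) * card_top S R J

include S hp hS in
/-- **Kawanaka's formula** -/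
theorem kaw {n₀ : Y} (hn : n₀ ∈ N) (h0 : π n₀ = w0 cs) :
    ∑ g : G, ic (IsUni p (g : Y)) * κ g = Nat.card U * ∑ u : U, κ (n₀ * u * n₀⁻¹) := by
  have hB := card_ne (Par_le S ∅)
  have := fun J => @Fintype.ofFinite _ (Finite.of_injective _ (Subgroup.inclusion_injective (R.le J)))
  have h1 : ∀ J, ∀ x ∈ G, ∑ g : G, ic (x⁻¹ * g * x ∈ V J) * κ g = ∑ v : V J, κ (x * v * x⁻¹) := fun J x hx => by
    rw [← sum_mul_lr (K := G) (fun g => ic (x⁻¹ * g * x ∈ V J) * κ g) hx (inv_mem hx),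
      ← sum_sub ((R.le J).trans S.U_le) fun g => κ (x * g * x⁻¹)]
    simp [mul_assoc]
  have h2 : ∀ J : Finset I, ∑ g : G, (Nat.card (Par S ∅) : ℂ)⁻¹ * cc cs G U N π J *
      ((Nat.card (Par S J) : ℂ)⁻¹ * ∑ x : G, ic ((x : Y)⁻¹ * g * x ∈ V J)) * κ g = (Nat.card (Par S ∅) : ℂ)⁻¹ *
      ∑ y : G, ic (∀ i ∈ J, cs.length (cl U N π y) < cs.length (cl U N π y * cs.simple i)) *
        ∑ u : U, κ (y * u * (y : Y)⁻¹) := fun J => by
    simp only [mul_assoc (_⁻¹ : ℂ), mul_assoc (cc cs G U N π J), ← Finset.mul_sum]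
    simp only [Finset.sum_mul]
    rw [Finset.sum_comm, gate S J (f := fun x => ∑ g : G, ic (x⁻¹ * g * x ∈ V J) * κ g) fun x _ q hq =>
      Finset.sum_congr rfl fun g _ => by rw [← ic_congr (V_iff S R hq)]; simp [mul_assoc], Finset.mul_sum (a := _⁻¹),
      Finset.mul_sum]
    refine congrArg _ (Finset.sum_congr rfl fun y _ => ?_)
    rw [ic_congr (P := ∀ i ∈ J, cs.length (cl U N π y) < cs.length (cl U N π y * cs.simple i)) (isMinR_iff cs (J := J)).symm]
    by_cases h : IsMinR cs J (cl U N π y)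
    · rw [ic_pos h, one_mul, one_mul, h1 J y y.2, mul_left_comm, sum_V S R hκ y.2 h, inv_mul_cancel_left₀ hB]
    · rw [ic_neg h, zero_mul, zero_mul, mul_zero, mul_zero]
  have h3 := card_top S R Set.univ
  rw [(Subgroup.eq_bot_iff_forall _).2 R.triv, Subgroup.card_bot, Nat.cast_one, mul_one] at h3
  rw [Finset.sum_congr rfl fun (g : G) _ => (congrArg (· * κ g) (ic_uni S R hp hS g.2)).trans (Finset.sum_mul ..),
    Finset.sum_comm]
  rw [Finset.sum_congr rfl fun (J : Finset I) _ => by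
    rw [Finset.sum_congr rfl fun _ _ => mul_assoc .., ← Finset.mul_sum, h2, mul_left_comm, Finset.mul_sum,
      Finset.sum_congr rfl fun _ _ => (mul_assoc ..).symm], ← Finset.mul_sum, Finset.sum_comm, inv_mul_eq_iff_eq_mul₀ hB, ← mul_assoc, mul_comm (Nat.card (Par S ∅) : ℂ), ← h3, cc, Finset.sum_mul]
  refine Finset.sum_congr rfl fun y _ => ?_
  rw [← Finset.sum_mul, ← Finset.powerset_univ, alt_ic, ic_congr (Q := cl U N π y = wJ cs Set.univ)
    ⟨fun h => eq_w0_of_descents fun i => h i (Finset.mem_univ i), fun h i _ =>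
      (H115.Bru.eq_longest_iff (isLongest_wJ cs _) (mem_WJ_univ cs _)).1 h i trivial⟩]
  by_cases h : cl U N π y = wJ cs Set.univ
  swap
  · rw [ic_neg h, zero_mul, zero_mul]
  obtain ⟨a, ha, h4⟩ := exists_dc S y.2
  rw [cl_eq S ha h4] at h
  obtain ⟨u, hu, u', hu', e⟩ := h4
  have ht := S.mem_T_of_π_eq' hn ha (h0.trans h.symm)
  refine congrArg _ ?_
  rw [← sum_mul_lr (K := U) (fun x => κ (y * x * (y : Y)⁻¹)) (inv_mem hu') hu']
  refine Fintype.sum_equiv ⟨fun x => ⟨_, S.T_norm _ ht _ x.2⟩, fun x => ⟨_, S.T_norm' ht x.2⟩,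
    fun x => Subtype.ext (by simp only; group), fun x => Subtype.ext (by simp only; group)⟩ _ _ fun x => ?_
  rw [← hκ.left _ hu (n₀ * _ * n₀⁻¹), ← hκ.right _ (inv_mem hu) (_ * (n₀ * _ * n₀⁻¹)), e]
  congr 1
  simp only [Equiv.coe_fn_mk]
  group

end Cfsg.Agent.OM.Cas.Kaw
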