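import Cfsg.Agent.OM.Cas.Defs
import Cfsg.Agent.OM.Cas.KawA

/-!
# OM, the unipotent elements in the double cosets of `U` (helper4)
-/

set_option autoImplicit false
set_option maxHeartbeats 400000
set_option linter.unusedSectionVars false

namespace Cfsg.Agent.OM.Cas.Kaw

open Cfsg Cfsg.Agent.DL Cfsg.Agent.DL.St Cfsg.Agent.DL.Uni Cfsg.Agent.Tits.Core Cfsg.Agent.Tits.Exchange
  Cfsg.Agent.Tits.Roots Cfsg.Agent.Nodes Cfsg.Agent.Nodes.StabComb Cfsg.Agent.Nodes.NormalForm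
  Cfsg.Agent.ChevalleyStructure.CoxeterGeom Cfsg.Agent.Nodes.Reps Cfsg.Agent.Nodes.OppDec Cfsg.Agent.Nodes.BNOf

variable {p : ℕ} [Fact p.Prime] {k : Type} [Field k] [CharP k p] {Y : Type} [Group Y] {N : Type} [Fintype N]
  [DecidableEq N] {ρ : Y →* GL N k} {F : MulAut Y} {G : Subgroup Y} [IsAlgClosed k] (D : Datum p ρ F G)

theorem pw_eq (J : Set D.I) : PW D.cs D.h (wJ D.cs J) = NotJ D.cs D.h J := by
  ext x
  refine ⟨fun h => (mem_PosJ_or_NotJ J h.1 h.2.1).resolve_left fun h1 =>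
    (h.1.act _).not_pos_neg h.2.2 (rep_longest_nonpos (isLongest_wJ D.cs J) h1),
    fun h => ⟨h.1, h.2.1, (NotJ.act (isLongest_wJ D.cs J).mem h).2.1⟩⟩

theorem min_pos {J : Set D.I} {w : D.W} (hw : IsMinR D.cs J w) {x : D.I → ℤ} (hx : x ∈ NW D.cs D.h (wJ D.cs J)) :
    0 ≤ D.act w x := by
  have h1 := (mem_PosJ_or_NotJ J hx.1 hx.2.1).resolve_right fun h =>
    (hx.1.act _).not_pos_neg (NotJ.act (isLongest_wJ D.cs J).mem h).2.1 hx.2.2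
  rw [pi_eq_sum_univ' x, Datum.act, map_sum]
  refine Finset.sum_nonneg fun i _ => ?_
  rw [map_zsmul]
  by_cases h : i ∈ J
  · exact smul_nonneg (hx.2.1 i) (nonneg_of_lt D.cs D.h w i ((isMinR_iff D.cs).1 hw i h))
  · rw [h1.2.2 i h, zero_smul]

variable {D}

theorem rd {d e : ℕ} (H : D.Split d e) : Rd D.cs (D.U ⊓ Mk.fix (F ^ d)) (D.NN ⊓ Mk.fix (F ^ d)) D.pr
    fun J => D.S (PW D.cs D.h (wJ D.cs J)) ⊓ Mk.fix (F ^ d) where
  le J := inf_le_inf_right _ (D.PW_le_U _)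
  nU J u hu v hv := by
    have h1 : D.U ≤ Subgroup.normalizer (D.S (NotJ D.cs D.h J) : Set Y) := RGD.Sup_le fun a ha =>
      PP.X_le_normalizer D (fun _ h => h.1) ha.1 (fun h => ha.1.not_pos_neg ha.2 (neg_nonneg.1 h.2.1))
        fun b hb c hc => ⟨hc.1, btwn_nonneg hc ha.2 hb.2.1, hb.2.2.imp fun i hi =>
          ⟨hi.1, btwn_apply_pos hc.symm hi.2 (ha.2 i)⟩⟩
    rw [← pw_eq] at h1
    exact Mk.mkfx ((Subgroup.mem_normalizer_iff.1 (h1 hu.1) v).1 hv.1)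
      (mul_mem (mul_mem (Mk.mfx hu) (Mk.mfx hv)) (inv_mem (Mk.mfx hu)))
  nN J a ha h v hv := Mk.mkfx (D.conj_mem_S (D.rp_pr ha.1) (fun _ h => h.1)
    (fun b hb => by rw [pw_eq] at hb ⊢; exact NotJ.act h hb) hv.1)
    (mul_mem (mul_mem (Mk.mfx ha) (Mk.mfx hv)) (inv_mem (Mk.mfx ha)))
  dec J u hu := by
    obtain ⟨b, hb, c, hc, rfl⟩ := D.exists_PW_NW (wJ D.cs J) hu.1
    have h1 : (F ^ d) b * (F ^ d) c = b * c := (map_mul _ b c).symm.trans hu.2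
    have h2 : b⁻¹ * (F ^ d) b ∈ D.S (PW D.cs D.h (wJ D.cs J)) ⊓ D.S (NW D.cs D.h (wJ D.cs J)) :=
      Subgroup.mem_inf.2 ⟨mul_mem (inv_mem hb) (H.mem_S (fun _ h => h.1) hb), by
        rw [eq_mul_inv_of_mul_eq h1, mul_assoc, inv_mul_cancel_left]
        exact mul_mem hc (inv_mem (H.mem_S (fun _ h => h.1) hc))⟩
    rw [D.S_inf_S (D.cl_PW _) (D.cl_NW _) _ fun a ha => D.ht_pos_of_pos a
      (ha.elim (fun h => ⟨h.1, h.2.1⟩) fun h => ⟨h.1, h.2.1⟩)] at h2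
    have h3 : (F ^ d) b = b := (inv_mul_eq_one.1 (Subgroup.mem_bot.1 ((RGD.Sup_le fun a ha =>
      absurd ha.2.2.2 ((ha.1.1.act _).not_pos_neg ha.1.2.2)) h2))).symm
    refine ⟨b, Mk.mkfx hb h3, fun a ha h => Mk.mkfx ?_
      (mul_mem (mul_mem (Mk.mfx ha) (mul_mem (inv_mem h3) (Mk.mfx hu))) (inv_mem (Mk.mfx ha)))⟩
    rw [inv_mul_cancel_left]
    exact D.conj_mem_S (D.rp_pr ha.1) (S' := RGD.Pos D.cs D.h) (fun _ h => h.1)
      (fun x hx => ⟨hx.1.act _, min_pos D h hx⟩) hc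
  top J a ha h v hv h1 := by
    have h0 : D.Rp (wJ D.cs J) a⁻¹ := by
      have := (D.rp_pr ha.1).inv
      rwa [h, (isLongest_wJ D.cs J).inv_eq] at this
    obtain ⟨b, hb, c, hc, rfl⟩ := D.exists_PW_NW (wJ D.cs J) hv.1
    have h2 := D.conj_mem_S h0 (S' := Neg D.cs D.h) (fun _ h => h.1) (fun a ha => ⟨ha.1.act _, ha.2.2⟩) hc
    have h3 := D.eq_one_of_mem_U_of_mem_UN (by convert mul_mem (inv_mem (D.conj_PW h0 hb)) h1.1 using 1; group) h2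
    rw [conj_eq_one_iff.1 h3, mul_one] at hv ⊢
    exact Mk.mkfx hb (Mk.mfx hv)
  triv v hv := Subgroup.mem_bot.1 ((RGD.Sup_le fun a ha => by
    rw [pw_eq] at ha
    exact absurd trivial ha.2.2.choose_spec.1) hv.1)

theorem syl {d e : ℕ} (H : D.Split d e) [Finite ↥(G ⊓ Mk.fix (F ^ d))] :
    Nat.card ↥(D.U ⊓ Mk.fix (F ^ d)) = p ^ (Nat.card ↥(G ⊓ Mk.fix (F ^ d))).factorization p := by
  rw [← card_U D.sbn (spl H).aut (H := G ⊓ Mk.fix (F ^ d)) (fun _ => Iff.rfl) D.isPGroup_U (fun _ => eq_one_of_pow D)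
    fun i => ?_, ← inf_assoc, inf_eq_left.2 D.U_le_G]
  have hi := isRoot_sr D.cs D.h i
  have h1 := D.sbn.X_le i (D.x_mem hi 1)
  refine ⟨D.x (sr i) 1, h1, by rw [H.x _ hi, one_pow], fun v hv h => one_ne_zero ((D.x_eq_one_iff hi).1
    (D.sbn.dec_uniq i _ (D.x_mem hi 1) ((mem_PW_iff D i h1).2 ?_)))⟩
  simpa [mul_assoc] using (Subgroup.mem_normalizer_iff.1 (U_le_normalizer D i hv) _).1
    ((mem_PW_iff D i (mul_mem (mul_mem (inv_mem hv) h1) hv)).1 h)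

end Cfsg.Agent.OM.Cas.Kaw

namespace Cfsg.Agent.OM.Cas

open Cfsg Cfsg.Agent.DL Cfsg.Agent.Tits.Core Cfsg.Agent.Tits.Exchange

/-- **The unipotent elements in the double cosets of `U`.** -/
theorem boxKaw : BoxKaw := by
  intro p _ k _ _ Y _ N _ _ ρ F G _ D d e H σ hσ _ _ n₀ hn h0 κ hκ
  subst hσ
  obtain ⟨m, h3, h4⟩ := H.exists_rp D.wF
  have S := (Mk.frame D H h3 h4).level 1
  rw [pow_one] at S
  rw [← Kaw.kaw S (Kaw.rd H) D.isPGroup_U.to_inf_left (Kaw.syl H) hκ hn (eq_w0_of_length _ (h0 _)), usum]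
  exact Finset.sum_congr rfl fun g _ => by rw [Kaw.ic, ite_mul, one_mul, zero_mul]; rfl

end Cfsg.Agent.OM.Cas
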