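import Cfsg.Agent.OM.Cas.Sh
import Cfsg.Agent.OM.Cas.Kaw
import Cfsg.Agent.KZ.Lie.ApiA
import Cfsg.Agent.H418.CC.Heis

/-!
# OM, the sum of the reflections acts by a scalar: the assembly (helper62)
-/

set_option autoImplicit false
set_option maxHeartbeats 400000
set_option linter.unusedSectionVars false

namespace Cfsg.Agent.OM.Cas.Glue

open Cfsg Cfsg.Agent.DL Cfsg.Agent.DL.Mk Cfsg.Agent.DL.PP Cfsg.Agent.DL.Lef Cfsg.Agent.KZ.Lie Cfsg.Agent.DL.Uni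
  Cfsg.Agent.Characters.Core Polynomial

/-! ### the first order term -/

theorem deriv {W : Type} [Fintype W] {x : ℂ} (h0 : x ≠ 0) (hx : ∀ m, 0 < m → x ^ m ≠ 1) {τ : W → ℕ → ℂ}
    (hτ : ∀ w, ExpC (τ w)) {P : W → ℂ[X]} (h1 : ∀ w, (P w).eval 1 = 0)
    (h : ∀ m, 0 < m → ∑ w, (P w).eval (x ^ m) * τ w m = 0) : ∑ w, (derivative (P w)).eval 1 * lef (τ w) = 0 := by
  choose E hE using fun w => dvd_iff_isRoot.2 (h1 w)
  have h2 : ∀ m, 0 < m → ∑ w, (E w).eval (x ^ m) * τ w m = 0 := fun m hm => by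
    refine (mul_eq_zero.1 ?_).resolve_left (sub_ne_zero.2 (hx m hm))
    rw [← h m hm, Finset.mul_sum]
    exact Finset.sum_congr rfl fun w _ => by rw [hE w, eval_mul, eval_sub, eval_X, eval_C, mul_assoc]
  have h3 := (lef_congr h2).trans (lef_const 0)
  rw [lef_sum _ fun w _ => (expC_aeval_pow h0 (E w)).mul (hτ w)] at h3
  rw [← h3]
  refine Finset.sum_congr rfl fun w _ => ?_
  rw [lef_mul (expC_aeval_pow h0 (E w)) (hτ w), lef_eval_pow h0, hE w]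
  simp

section cox

variable {I W : Type} [Group W] {M : CoxeterMatrix I} (cs : CoxeterSystem M W) (ε : W → I → Prop)

theorem Rw_smul (q a : ℂ) (ω : List I) (φ : W → ℂ) (w : W) : Rw cs ε q ω (fun v => a * φ v) w = a * Rw cs ε q ω φ w := by
  induction ω generalizing w with
  | nil => rfl
  | cons i ω ih =>
    simp only [Rw, Rop, ih]
    split_ifs <;> ring

theorem Rw_dl (q : ℂ) (ω : List I) (hω : cs.IsReduced ω) (w : W) :
    Rw cs ε q ω (dl1 ℂ) w = dl1 ℂ (w * cs.wordProd ω) := by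
  induction ω generalizing w with
  | nil => simp [Rw]
  | cons i ω ih =>
    have h1 : cs.IsReduced ω := by simpa using hω.drop 1
    have h2 : cs.length (cs.wordProd ω)⁻¹ < cs.length ((cs.wordProd ω)⁻¹ * cs.simple i) := by
      rw [← cs.inv_simple i, ← mul_inv_rev, cs.length_inv, cs.length_inv, ← cs.wordProd_cons]
      unfold CoxeterSystem.IsReduced at hω h1
      rw [hω, h1, List.length_cons]
      exact Nat.lt_succ_self _
    simp only [Rw, Rop, ih h1, cs.wordProd_cons, ← mul_assoc]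
    split_ifs with h3 h4
    · rw [dl1, if_neg fun k => ?_, mul_zero]
      rw [← eq_inv_of_mul_eq_one_left k, mul_assoc, cs.simple_mul_simple_self, mul_one] at h2
      omega
    · rw [dl1.eq_1 ℂ (w * cs.wordProd ω), if_neg fun k => h3 (by rwa [eq_inv_of_mul_eq_one_left k]), mul_zero, add_zero]
    · rw [add_zero]

end cox

/-! ### one level -/

section bn

variable {I W Y : Type} [Group W] [Group Y] {M : CoxeterMatrix I} {cs : CoxeterSystem M W} {G U T N : Subgroup Y}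
  {π : Y → W} {n : I → Y} {X : I → Subgroup Y} (S : SBN cs G U T N π n X) [Fintype G] [Fintype U] [∀ i, Fintype (X i)]
  {Q : ℕ} (hQ : ∀ i, Fintype.card (X i) = Q) {N₀ : Subgroup Y} (hN₀ : N₀ ≤ N) (hn₀ : ∀ i, n i ∈ N₀) {Θ : Y → ℂ}
  {ε : W → I → Prop} {h : I → Y → Y} (hrk : ∀ i, ∀ ξ ∈ X i, ξ ≠ 1 → h i ξ ∈ T ∧ n i * ξ * n i ∈ dc U (h i ξ * n i))
  (hε : Adm T N₀ π X h Q Θ ε)

include S hQ hN₀ hn₀ hrk hε

theorem good_avn {f : Y → ℂ} {φ : W → ℂ} (hf : Good U T N₀ π Θ f φ) {y : Y} (hy : y ∈ N₀) :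
    Good U T N₀ π Θ (fun g => (Q : ℂ) ^ cs.length (π y) * avn U f y g) (Rw cs ε (Q : ℂ) (rword cs (π y)) φ) where
  bi := ⟨fun u hu g => by rw [(Bi.avn hf.bi.left y).left u hu], fun u hu g => by rw [(Bi.avn hf.bi.left y).right u hu]⟩
  eqv t ht g := by rw [avn_left (hf.eqv t ht)]; ring
  val a ha := S.avn_val hQ hN₀ hn₀ hrk hε.eps hf hy ha

theorem good_zs {Un : Set Y} (hc : ∀ x ∈ G, ∀ v ∈ Un, x * v * x⁻¹ ∈ Un) {n₀ : Y} (hn : n₀ ∈ N₀) (h0 : (π n₀)⁻¹ = π n₀)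
    (hQ0 : (Q : ℂ) ≠ 0)
    (hK : ∀ κ : Y → ℂ, Bi U κ → usum G Un (fun v => κ v) = Nat.card U * ∑ u : U, κ (n₀ * u * n₀⁻¹))
    {f : Y → ℂ} {φ : W → ℂ} (hf : Good U T N₀ π Θ f φ) :
    Good U T N₀ π Θ (zs G Un f) fun w => ((Nat.card U : ℂ) / (Q : ℂ) ^ cs.length (π n₀)) ^ 2 *
      Rw cs ε (Q : ℂ) (rword cs (π n₀)) (Rw cs ε (Q : ℂ) (rword cs (π n₀)) φ) w := by
  classical
  have h1 : ∀ u ∈ U, ∀ g, zs G Un f (g * u) = zs G Un f g := fun u hu g => by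
    rw [zs, zs, usum, usum, ← sum_mul_lr (K := G) (fun v => if v ∈ Un then f (g * v) else 0) (S.U_le hu) (inv_mem (S.U_le hu))]
    refine Finset.sum_congr rfl fun v _ => if_congr ⟨hc u (S.U_le hu) v, fun k => ?_⟩ ?_ rfl
    · simpa [mul_assoc] using hc _ (inv_mem (S.U_le hu)) _ k
    · rw [← mul_assoc, ← mul_assoc, hf.bi.right _ (inv_mem hu)]
  refine ⟨⟨fun u hu g => ?_, h1⟩, fun t ht g => ?_, fun a ha => ?_⟩
  · simp only [zs, mul_assoc, hf.bi.left u hu]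
  · simp only [zs, usum, mul_assoc, hf.eqv t ht, Finset.mul_sum, mul_ite, mul_zero]
  have h2 : zs G Un f a = usum G Un fun v => avn U f v a := by
    rw [← sum_avg (K := U) (f := fun u => zs G Un f (a * u)) fun u => h1 u u.2 a]
    simp only [zs, usum, avn]
    rw [Finset.sum_comm, Finset.mul_sum]
    refine Finset.sum_congr rfl fun v _ => ?_
    split_ifs <;> simp
  have h3 : Bi U fun v => avn U f v a := ⟨fun u hu g => by
    rw [← avn_right U f g a hu, avn, avn, ← sum_mul_right (K := U) (fun z => f (a * u * z * g)) hu,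
      ← sum_mul_left (K := U) (fun z => f (a * z * (u * g))) hu]
    simp only [mul_assoc], fun u hu g => by simp only [avn, ← mul_assoc, hf.bi.right u hu]⟩
  have h4 := good_avn S hQ hN₀ hn₀ hrk hε hf (inv_mem hn)
  rw [S.π_inv (hN₀ hn), h0] at h4
  rw [h2, hK _ h3, ← (good_avn S hQ hN₀ hn₀ hrk hε h4 hn).val a ha]
  have h5 := Mk.card_ne_zero U
  have h6 := pow_ne_zero (cs.length (π n₀)) hQ0
  simp only [avn, ← Finset.mul_sum, Nat.card_eq_fintype_card, ← mul_assoc]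
  rw [Finset.sum_comm]
  field_simp

end bn

/-! ### purity -/

theorem le_of_usum {Y : Type} [Group Y] {S : Subgroup Y} [Fintype S] {Un : Set Y} {ψ : S → ℂ} (hψ : IsIrrCharacter S ψ)
    {Q J j : ℕ} (hQ : 1 < Q) (hJ : Nat.card S ≤ Q ^ J) (h : usum S Un ψ ^ 2 = (Q : ℂ) ^ j * ψ 1 ^ 2) : j ≤ 2 * J := by
  have h1 := H418.CC.charDegree_eq (isIrr_isCharacter hψ)
  have h2 : ‖usum S Un ψ‖ ≤ Nat.card S * charDegree ψ := by
    rw [Nat.card_eq_fintype_card, ← nsmul_eq_mul, ← Finset.card_univ, ← Finset.sum_const]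
    refine norm_sum_le_of_le _ fun v _ => ?_
    split_ifs
    · exact H418.CC.norm_le (isIrr_isCharacter hψ) v
    · simp
  have h3 := pow_le_pow_left₀ (norm_nonneg _) h2 2
  have h4 : 0 < charDegree ψ := Nat.pos_of_ne_zero fun k => isIrr_apply_one_ne_zero hψ (by rw [h1, k, Nat.cast_zero])
  rw [← norm_pow, h, h1, norm_mul, norm_pow, norm_pow, Complex.norm_natCast, Complex.norm_natCast, mul_pow,
    mul_le_mul_iff_left₀ (by positivity)] at h3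
  have h5 : Q ^ j ≤ Nat.card S ^ 2 := by exact_mod_cast h3
  rw [← Nat.pow_le_pow_iff_right hQ, mul_comm, pow_mul]
  exact h5.trans (Nat.pow_le_pow_left hJ 2)

theorem finite_val {H : Type} [Group H] [Fintype H] (c : ℤ) (θ : H → ℂ) :
    {r : ℝ | ∃ K : H → ℤ, (∀ z, |K z| ≤ c) ∧ (r : ℂ) = classInner (fun z => (K z : ℂ)) θ}.Finite := by
  refine ((Set.Finite.pi' fun _ : H => Set.finite_Icc (-c) c).image
    fun K : H → ℤ => (classInner (fun z => (K z : ℂ)) θ).re).subset ?_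
  rintro r ⟨K, h1, h2⟩
  exact ⟨K, fun z => abs_le.1 (h1 z), by simp only [← h2, Complex.ofReal_re]⟩

variable {p : ℕ} [Fact p.Prime] {k : Type} [Field k] [CharP k p] {Y : Type} [Group Y] {N : Type} [Fintype N]
  [DecidableEq N] {ρ : Y →* GL N k} {F : MulAut Y} {G : Subgroup Y} [IsAlgClosed k] {D : Datum p ρ F G}

theorem pure (bP : BoxPur) (bM : BoxMean) (bE : BoxEig) (bI : BoxIso) (bO : BoxOrd) (bS : BoxSp) [Fintype ↥(GF F G)]
    (hq : D.QS) {d e : ℕ} (H : D.Split d e) {χ : GF F G → ℂ} (hχ : IsIrrCharacter (GF F G) χ) (a : ℕ → GF F G → Y)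
    (ha : ∀ m, 0 < m → ∀ g, a m g ∈ G ∧ ((F ^ d) ^ m) (a m g) = g * a m g) :
    ∃ j B : ℕ, ∀ m, B < m → ∀ [Fintype ↥(G ⊓ Mk.fix ((F ^ d) ^ m))] (κ : Y → ℂ),
      classInner (ph F (G ⊓ Mk.fix ((F ^ d) ^ m)) (fun g => (a m g)⁻¹ * F (a m g))
        (zs (G ⊓ Mk.fix ((F ^ d) ^ m)) {v | IsUni p v} (zs (G ⊓ Mk.fix ((F ^ d) ^ m)) {v | IsUni p v} κ))) χ =
      (((p ^ e) ^ m : ℕ) : ℂ) ^ j * classInner (ph F (G ⊓ Mk.fix ((F ^ d) ^ m)) (fun g => (a m g)⁻¹ * F (a m g)) κ) χ := by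
  obtain ⟨O, J, hO, hJ⟩ := bO D H
  have h0 : 1 < p ^ e := Nat.one_lt_pow H.e_pos.ne' (Fact.out : p.Prime).one_lt
  have key : ∀ m, 0 < m → ∃ (K : ℕ → GF F G × GF F G → ℤ) (w : ℕ → ℝ), (∀ j z, |K j z| ≤ Nat.card (GF F G)) ∧
      (∀ j, (w j : ℂ) = classInner (fun z => (K j z : ℂ)) (sq2 χ)) ∧ (∀ j, 0 ≤ w j) ∧
      ∑ j ∈ Finset.range (2 * J + 1), w j = 1 ∧
      (∀ l z, (Nk F (G ⊓ Mk.fix ((F ^ d) ^ m)) {v | IsUni p v} (fun g => (a m g)⁻¹ * F (a m g)) (2 * l) z : ℤ) =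
        ∑ j ∈ Finset.range (2 * J + 1), (((p ^ e) ^ m : ℕ) : ℤ) ^ (j * l) * K j z) ∧
      ∀ j ≤ 2 * J, w j = 1 → ∀ [Fintype ↥(G ⊓ Mk.fix ((F ^ d) ^ m))] (κ : Y → ℂ),
        classInner (ph F (G ⊓ Mk.fix ((F ^ d) ^ m)) (fun g => (a m g)⁻¹ * F (a m g))
          (zs (G ⊓ Mk.fix ((F ^ d) ^ m)) {v | IsUni p v} (zs (G ⊓ Mk.fix ((F ^ d) ^ m)) {v | IsUni p v} κ))) χ =
        (((p ^ e) ^ m : ℕ) : ℂ) ^ j *
          classInner (ph F (G ⊓ Mk.fix ((F ^ d) ^ m)) (fun g => (a m g)⁻¹ * F (a m g)) κ) χ := fun m hm => by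
    have h1 : Finite ↥(G ⊓ Mk.fix ((F ^ d) ^ m)) := by
      rw [← pow_mul]
      exact (D.amb.pow (Nat.mul_pos H.d_pos hm)).finite_GF G
    have I := Fintype.ofFinite ↥(G ⊓ Mk.fix ((F ^ d) ^ m))
    have h2 := Nat.one_lt_pow hm.ne' h0
    obtain ⟨h3, h4, h5⟩ := bI D (Nat.mul_pos H.d_pos hm) _ (pow_mul F d m).symm (a m) (ha m hm)
    obtain ⟨K, w, k1, k2, k3, k4, k5, k6⟩ := bP F _ _ _ _ ((p ^ e) ^ m) (2 * J) h3 h4 h2 (fun ψ hψ => by
      obtain ⟨j, hj⟩ := bE D hq (H.mul hm) _ (pow_mul F d m).symm ψ hψ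
      rw [pow_mul] at hj
      exact ⟨j, le_of_usum hψ h2 (hJ m hm).2 hj, hj⟩) χ (classInner_irr_self hχ) fun g g' x hx h => by
        obtain ⟨y, rfl⟩ := isConj_iff.1 (h5 g g' x hx h)
        exact isIrr_isClassFunction hχ g y
    refine ⟨K, w, k1, k2, k3, k4, k5, fun j hj hw I' κ => ?_⟩
    obtain rfl : I' = I := Subsingleton.elim _ _
    exact k6 j hj hw κ
  choose! K w k1 k2 k3 k4 k5 k6 using key
  have hs : IsCharacter (GF F G × GF F G) (sq2 χ) := by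
    have h1 := isCharacter_mul (isCharacter_comp (MonoidHom.fst (GF F G) (GF F G)) (isIrr_isCharacter hχ))
      (isCharacter_comp (MonoidHom.snd (GF F G) (GF F G)) (isCharacter_conj (isIrr_isCharacter hχ)))
    exact h1
  obtain ⟨j, hj, B, hB⟩ := bM (p ^ e) (2 * J) O (fun j m => w m j) _ h0 hO (finite_val (Nat.card (GF F G)) (sq2 χ))
    (fun j m hm => ⟨⟨K m j, k1 m hm j, k2 m hm j⟩, k3 m hm j⟩) k4 fun l =>
      ((bS D H a ha (2 * l)).expZ (sq2 χ) hs).congr fun m hm => by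
      have h1 : ∀ z, (Nk F (G ⊓ Mk.fix ((F ^ d) ^ m)) {v | IsUni p v} (fun g => (a m g)⁻¹ * F (a m g)) (2 * l) z : ℂ) =
          ∑ j ∈ Finset.range (2 * J + 1), (((p ^ e : ℕ) : ℂ) ^ m) ^ (j * l) * K m j z := fun z => by
        exact_mod_cast congrArg (Int.cast (R := ℂ)) (k5 m hm l z)
      rw [← (hJ m hm).1, Int.cast_natCast, Finset.sum_congr rfl fun j _ => by rw [k2 m hm j, ← classInner_smul_left],
        ← classInner_sum_left, ← classInner_smul_left]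
      congr 1
      funext z
      simp only [h1, Pi.smul_apply, Finset.sum_apply, smul_eq_mul]
  exact ⟨j, B, fun m hm => k6 m (by omega) j hj (hB m hm)⟩

theorem fx_rf {c : Lbl D} {t w : D.W} (ht : t ∈ Rf D c) (h : ¬ Fx D w c) : ¬ Fx D (t * w) c := fun k => by
  obtain ⟨a, ha, rfl, h1⟩ := ht
  have h2 := k.mul (rel_rf ha h1)
  rw [← mul_assoc, D.rf_mul_self ha, one_mul] at h2
  exact h h2

theorem refl_rf {c : Lbl D} {t : D.W} (ht : t ∈ Rf D c) : D.cs.IsReflection t := by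
  obtain ⟨_, ⟨v, i, rfl⟩, rfl, -⟩ := ht
  exact ⟨v, i, D.rf_act v i⟩

/-- the relation at one level -/
theorem level (bG : BoxGen) (bK : BoxKaw) [Fintype ↥(GF F G)] [Fintype D.W] {c : Lbl D} {d e : ℕ} (H : D.Split d e)
    {lam : Y → ℂ} (hl : Lin (D.T ⊓ Mk.fix (F ^ d)) lam) {ε : D.W → D.I → Prop}
    (hε : ε = epsOf D.cs D.n (fun i => D.τ.comp (coch (D.cw i))⁻¹) (p ^ e) lam)
    (h1 : ∀ w i, ε w i ↔ w * D.cs.simple i * w⁻¹ ∈ Rf D c) {m : ℕ} (hm : 0 < m) (hd : Nat.card ↥(D.T ⊓ Mk.fix (F ^ d)) ∣ m)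
    [Fintype ↥(G ⊓ Mk.fix ((F ^ d) ^ m))] {L : (Y → ℂ) → ℂ} {τ : D.W → ℂ} {z : ℂ}
    (h2 : ∀ κ φ, Good (D.U ⊓ Mk.fix ((F ^ d) ^ m)) (D.T ⊓ Mk.fix ((F ^ d) ^ m)) (D.NN ⊓ Mk.fix (F ^ d)) D.pr
      (fun t => lam (t ^ gs (p ^ e) m)) κ φ → (∀ w, ¬ Fx D w c → φ w = 0) → L κ = ∑ w, φ w * τ w)
    (h3 : ∀ κ, L (zs (G ⊓ Mk.fix ((F ^ d) ^ m)) {v | IsUni p v} (zs (G ⊓ Mk.fix ((F ^ d) ^ m)) {v | IsUni p v} κ)) = z * L κ)
    (hc : ∀ x ∈ G ⊓ Mk.fix ((F ^ d) ^ m), ∀ v ∈ {v : Y | IsUni p v}, x * v * x⁻¹ ∈ {v : Y | IsUni p v})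
    {ω : List D.I} (hω : ω = rword D.cs (Tits.Core.w0 D.cs)) {q : ℂ} (hq : q = ((p ^ e) ^ m : ℕ)) {u : D.W} (hu : Fx D u c) :
    ∑ w, (q ^ (4 * (Nodes.BNOf.RGD.Pos D.cs D.h).ncard) * Rw D.cs ε q ω (Rw D.cs ε q ω (Rw D.cs ε q ω (Rw D.cs ε q ω
      fun v => dl1 ℂ (v * u⁻¹)))) w - z * q ^ (4 * ω.length) * dl1 ℂ (w * u⁻¹)) * τ w = 0 := by
  obtain ⟨n₁, k3, k4⟩ := H.exists_rp D.wF
  have A := Mk.frame D H k3 k4
  have S := A.level m
  have fin : ∀ {K : Subgroup Y}, K ≤ G ⊓ Mk.fix ((F ^ d) ^ m) → Fintype K := fun h =>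
    @Fintype.ofFinite _ (Finite.of_injective _ (Subgroup.inclusion_injective h))
  have := fin S.U_le
  have := fin (S.T_le.trans S.N_le)
  have := fun i => fin ((S.X_le i).trans S.U_le)
  obtain ⟨tt, t1, t2⟩ := A.exists_tt
  have a1 := A.adm t1 hm hd hl (Λ := fun t => lam (t ^ gs (p ^ e) m)) fun _ _ => rfl
  rw [← hε] at a1
  have hQ := fun i => Nat.card_eq_fintype_card.symm.trans (A.card_X hm i)
  have hN : D.NN ⊓ Mk.fix (F ^ d) ≤ D.NN ⊓ Mk.fix ((F ^ d) ^ m) := inf_le_inf_left _ (fix_le_pow _ m)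
  have hn : ∀ i, D.n i ∈ D.NN ⊓ Mk.fix (F ^ d) := fun i => mkfx (A.sbn.n_mem i) (A.σn i)
  have hr := A.hrk t1 t2 m
  have l1 : ∀ w, lift D.cs D.n w ∈ D.NN ⊓ Mk.fix (F ^ d) := fun w => lw_mem hn _
  have q0 : q ≠ 0 := hq ▸ Nat.cast_ne_zero.2 (pow_ne_zero _ (pow_ne_zero _ (Fact.out : p.Prime).ne_zero))
  obtain ⟨κ₀, g0⟩ : ∃ κ₀, Good (D.U ⊓ Mk.fix ((F ^ d) ^ m)) (D.T ⊓ Mk.fix ((F ^ d) ^ m)) (D.NN ⊓ Mk.fix (F ^ d)) D.pr
      (fun t => lam (t ^ gs (p ^ e) m)) κ₀ fun v => dl1 ℂ (v * u⁻¹) := by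
    have g0 := good_avn S hQ hN hn hr a1 (S.good_idc hN a1.lin a1.triv) (l1 u⁻¹)
    rw [show Rw D.cs ε _ _ (dl1 ℂ) = fun v => dl1 ℂ (v * u⁻¹) from funext fun v => by
      rw [Rw_dl _ _ _ _ (rword_reduced _ _), wordProd_rword, S.π_lift]] at g0
    exact ⟨_, g0⟩
  have gz := fun {κ φ} => good_zs S hQ hN hn hr a1 hc (l1 (Tits.Core.w0 D.cs)) (by rw [S.π_lift, Tits.Exchange.w0_inv])
    (hq ▸ q0) (fun κ hκ => bK D (H.mul hm) _ (pow_mul F d m).symm _ (hN (l1 _)) (fun w => by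
      rw [S.π_lift]; exact Tits.Exchange.length_le_w0 _ w) κ hκ) (f := κ) (φ := φ)
  have g2 := gz (gz g0)
  rw [S.π_lift, ← hω, ← hq, A.cardU m hm, Nat.cast_pow, ← hq, ← length_rword D.cs (Tits.Core.w0 D.cs), ← hω] at g2
  have z0 : ∀ w, ¬ Fx D w c → dl1 ℂ (w * u⁻¹) = 0 := fun w hw => if_neg fun k => hw (by rwa [mul_inv_eq_one.1 k])
  have z1 := (bG D.cs (Rf D c) ε h1 ω (hω ▸ rword_reduced _ _) fun w => by
    rw [hω, length_rword]; exact Tits.Exchange.length_le_w0 _ w).2 {w | ¬ Fx D w c} fun t ht w hw => fx_rf ht hw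
  have h4 := h3 _ ▸ h2 _ _ g2 fun w hw => by
    rw [z1 _ (fun v hv => by rw [z1 _ z0 q v hv, mul_zero]) q w hw, mul_zero]
  rw [h2 _ _ g0 z0] at h4
  have h5 : ∀ φ : D.W → ℂ, ∀ a : ℂ, (Rw D.cs ε q ω fun v => a * φ v) = fun v => a * Rw D.cs ε q ω φ v := fun φ a =>
    funext (Rw_smul D.cs ε q a ω φ)
  simp only [h5, mul_assoc, ← Finset.mul_sum] at h4
  simp only [sub_mul, mul_assoc, Finset.sum_sub_distrib, ← Finset.mul_sum]
  rw [mul_left_comm z, h4]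
  field_simp
  ring

/-- the generic polynomials -/
theorem gen (bG : BoxGen) [Fintype D.W] {c : Lbl D} {ε : D.W → D.I → Prop}
    (h1 : ∀ w i, ε w i ↔ w * D.cs.simple i * w⁻¹ ∈ Rf D c) {ω : List D.I} (hω : ω = rword D.cs (Tits.Core.w0 D.cs))
    (A B : ℕ) (u : D.W) (y : D.W → ℂ) {P : D.W → ℂ[X]}
    (hP : ∀ w, P w = X ^ A * Rw D.cs ε X ω (Rw D.cs ε X ω (Rw D.cs ε X ω (Rw D.cs ε X ω
      fun v => dl1 ℂ[X] (v * u⁻¹)))) w - X ^ B * dl1 ℂ[X] (w * u⁻¹)) :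
    (∀ w, (P w).eval 1 = 0) ∧
      ∑ w, (derivative (P w)).eval 1 * y w = 2 * cas D c y u + (A + 2 * ω.length - B) * y u := by
  classical
  have z1 := (bG D.cs (Rf D c) ε h1 ω (hω ▸ rword_reduced _ _) fun w => by
    rw [hω, length_rword]; exact Tits.Exchange.length_le_w0 _ w).1
  have e1 : ∀ w : D.W, (dl1 ℂ[X] w).eval 1 = dl1 ℂ w := fun w => map_dl1 (evalRingHom (1 : ℂ)) w
  have e2 : ∀ w : D.W, derivative (dl1 ℂ[X] w) = 0 := fun w => by
    rw [dl1]; split_ifs <;> simp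
  refine ⟨fun w => by simp [hP, (z1 _ _).1], ?_⟩
  have e3 : ∀ t : D.W, t ∈ Rf D c → ∑ w, dl1 ℂ (t * w * u⁻¹) * y w = y (t * u) := fun t ht => by
    rw [Finset.sum_eq_single (t * u) (fun w _ hw => by
      rw [dl1, if_neg fun k => hw (by rw [← mul_inv_eq_one.1 k, ← mul_assoc, (refl_rf ht).mul_self, one_mul]), zero_mul])
      (by simp), ← mul_assoc, (refl_rf ht).mul_self, one_mul, mul_inv_cancel, dl1, if_pos rfl, one_mul]
  have e4 : ∑ w, dl1 ℂ (w * u⁻¹) * y w = y u := by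
    rw [Finset.sum_eq_single u (fun w _ hw => by rw [dl1, if_neg fun k => hw (mul_inv_eq_one.1 k), zero_mul]) (by simp),
      mul_inv_cancel, dl1, if_pos rfl, one_mul]
  have e5 : ∑ w, (∑ t : D.W, if D.cs.IsReflection t ∧ t ∈ Rf D c then dl1 ℂ (t * w * u⁻¹) else 0) * y w = cas D c y u := by
    simp only [Finset.sum_mul]
    rw [Finset.sum_comm, cas]
    refine Finset.sum_congr rfl fun t _ => ?_
    by_cases ht : t ∈ Rf D c
    · simp only [ht, refl_rf ht, and_self, if_true, e3 t ht]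
    · simp [ht]
  have e6 : ∀ w, (derivative (P w)).eval 1 = 2 * (∑ t : D.W, if D.cs.IsReflection t ∧ t ∈ Rf D c then
      dl1 ℂ (t * w * u⁻¹) else 0) + (A + 2 * ω.length - B) * dl1 ℂ (w * u⁻¹) := fun w => by
    simp only [hP, derivative_sub, derivative_mul, derivative_X_pow, eval_sub, eval_add, eval_mul, eval_pow, eval_X, eval_C,
      (z1 _ _).1, (z1 _ _).2, e1, e2, eval_zero, one_pow]
    ring
  rw [← e4, ← e5, Finset.mul_sum, Finset.mul_sum, ← Finset.sum_add_distrib]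
  exact Finset.sum_congr rfl fun w _ => by rw [e6]; ring

end Cfsg.Agent.OM.Cas.Glue

namespace Cfsg.Agent.OM.Cas

open Cfsg Cfsg.Agent.DL Cfsg.Agent.DL.Mk Cfsg.Agent.DL.PP Cfsg.Agent.DL.Lef Cfsg.Agent.KZ.Lie Cfsg.Agent.DL.Uni
  Cfsg.Agent.Characters.Core Polynomial Glue

/-- **The multiplicities of an irreducible character form an eigenvector.** -/
theorem boxCas_of (bP : BoxPur) (bM : BoxMean) (bG : BoxGen) (bE : BoxEig) (bK : BoxKaw) (bI : BoxIso) (bO : BoxOrd)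
    (bS : BoxSp) : BoxCas := by
  intro p _ k _ _ Y _ N _ _ ρ F G _ D f _ _ hq χ hχ c
  classical
  have z0 : ∀ (κ : ℂ) w, ¬ Fx D w c → cas D c (fun u => classInner χ (RW f u c)) w = κ * classInner χ (RW f w c) :=
    fun κ w hw => by
      rw [RW_zero f hw, classInner_zero_right, mul_zero]
      refine Finset.sum_eq_zero fun t _ => ?_
      split_ifs with ht
      · simp only [RW_zero f (fx_rf ht hw), classInner_zero_right]
      · rfl
  by_cases h0 : ∃ w, Fx D w c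
  swap
  · exact ⟨0, fun w => z0 0 w fun h => h0 ⟨w, h⟩⟩
  obtain ⟨d, e, lam, S, H, hl, h1, hS, hSh⟩ := boxSh f hq c h0
  have h2 : ∀ m, 0 < m → ∀ g : GF F G, ∃ a ∈ G, ((F ^ d) ^ m) a = g * a := fun m hm g => by
    obtain ⟨z, hz, h⟩ := (D.pow (Nat.mul_pos H.d_pos hm)).lang_G' (inv_mem g.2.1)
    exact ⟨z, hz, by rw [← pow_mul, ← inv_inv (g : Y), h, mul_inv_rev, inv_inv, inv_mul_cancel_right]⟩
  choose! a ha ha' using h2
  obtain ⟨j, B, hB⟩ := pure bP bM bE bI bO bS hq H hχ a fun m hm g => ⟨ha m hm g, ha' m hm g⟩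
  have fin : ∀ m, 0 < m → Finite ↥(G ⊓ Mk.fix ((F ^ d) ^ m)) := fun m hm => by
    rw [← pow_mul]
    exact (D.amb.pow (Nat.mul_pos H.d_pos hm)).finite_GF G
  have finT : ∀ m, 0 < m → 0 < Nat.card ↥(D.T ⊓ Mk.fix ((F ^ d) ^ m)) := fun m hm => by
    have := fin m hm
    have := Finite.of_injective _ (Subgroup.inclusion_injective (inf_le_inf_right (Mk.fix ((F ^ d) ^ m)) D.T_le_G))
    exact Nat.card_pos
  have h3 := finT 1 one_pos
  rw [pow_one] at h3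
  obtain ⟨r, hr⟩ : ∃ r, r = Nat.card ↥(D.T ⊓ Mk.fix (F ^ d)) * (B + 1) := ⟨_, rfl⟩
  have r0 : 0 < r := hr ▸ Nat.mul_pos h3 B.succ_pos
  have p1 : 1 < p ^ e := Nat.one_lt_pow H.e_pos.ne' (Fact.out : p.Prime).one_lt
  obtain ⟨ω, hω⟩ : ∃ ω, ω = rword D.cs (Tits.Core.w0 D.cs) := ⟨_, rfl⟩
  refine ⟨(j + 2 * ω.length - 4 * (Nodes.BNOf.RGD.Pos D.cs D.h).ncard) / 2, fun u => ?_⟩
  by_cases hu : Fx D u c
  swap
  · exact z0 _ u hu
  obtain ⟨g1, g2⟩ := gen bG h1 hω (4 * (Nodes.BNOf.RGD.Pos D.cs D.h).ncard) (j + 4 * ω.length) u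
    (fun w => classInner (RW f w c) χ) fun _ => rfl
  have h4 := deriv (x := ((p ^ e : ℕ) : ℂ) ^ r) (pow_ne_zero _ (Nat.cast_ne_zero.2 (by omega))) (fun m hm k => by
      rw [← pow_mul, ← Nat.cast_pow, Nat.cast_eq_one] at k
      exact (Nat.one_lt_pow (Nat.mul_pos r0 hm).ne' p1).ne' k)
    (τ := fun w m => if Fx D w c then classInner (S w (r * m)) χ else 0) (fun w => by
      split_ifs with hw
      · exact (expC_classInner (hS w hw).1 fun g => expC_const (χ g)).comp_mul r0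
      · exact expC_const 0) g1 fun m hm => by
    have hm' := Nat.mul_pos r0 hm
    have := fin _ hm'
    have := Fintype.ofFinite ↥(G ⊓ Mk.fix ((F ^ d) ^ (r * m)))
    have h5 := level bG bK H hl rfl h1 hm' (hr ▸ (dvd_mul_right _ _).mul_right _)
      (L := fun κ => (Nat.card ↥(D.T ⊓ Mk.fix ((F ^ d) ^ (r * m))) : ℂ)⁻¹ *
        classInner (ph F (G ⊓ Mk.fix ((F ^ d) ^ (r * m))) (fun g => (a (r * m) g)⁻¹ * F (a (r * m) g)) κ) χ)
      (τ := fun w => if Fx D w c then classInner (S w (r * m)) χ else 0) (z := ((((p ^ e : ℕ) : ℂ) ^ r) ^ m) ^ j)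
      (fun κ φ hg hφ => by
        rw [show ph F _ _ κ = (Nat.card ↥(D.T ⊓ Mk.fix ((F ^ d) ^ (r * m))) : ℂ) • ∑ w, φ w • S w (r * m) from
          funext fun g => by
            rw [hSh _ hm' κ φ hg hφ _ (fun g => ⟨ha _ hm' g, ha' _ hm' g⟩) g]
            simp only [Pi.smul_apply, Finset.sum_apply, smul_eq_mul], classInner_smul_left, classInner_sum_left,
          inv_mul_cancel_left₀ (Nat.cast_ne_zero.2 (finT _ hm').ne')]
        refine Finset.sum_congr rfl fun w _ => ?_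
        split_ifs with hw
        · exact classInner_smul_left _ _ _
        · rw [hφ w hw, classInner_smul_left, zero_mul, zero_mul])
      (fun κ => by
        rw [hB _ (lt_of_lt_of_le (by nlinarith) (Nat.le_mul_of_pos_right r hm)), mul_left_comm, Nat.cast_pow _ (r * m),
          pow_mul _ r m])
      (bI D (Nat.mul_pos H.d_pos hm') _ (pow_mul F d _).symm (a _) fun g => ⟨ha _ hm' g, ha' _ hm' g⟩).2.1.conj
      hω (q := (((p ^ e : ℕ) : ℂ) ^ r) ^ m) (by rw [← pow_mul, Nat.cast_pow _ (r * m)]) hu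
    refine (Finset.sum_congr rfl fun w _ => ?_).trans h5
    have h6 := fun φ w => Rw_map D.cs (epsOf D.cs D.n (fun i => D.τ.comp (coch (D.cw i))⁻¹) (p ^ e) lam)
      (evalRingHom ((((p ^ e : ℕ) : ℂ) ^ r) ^ m)) X ω φ w
    have h7 := fun w : D.W => map_dl1 (evalRingHom ((((p ^ e : ℕ) : ℂ) ^ r) ^ m)) w
    simp only [coe_evalRingHom, eval_X] at h6 h7
    simp only [eval_sub, eval_mul, eval_pow, eval_X, h6, h7, pow_add]
  have h5 : ∀ w, lef (fun m => if Fx D w c then classInner (S w (r * m)) χ else 0) = classInner (RW f w c) χ := fun w => by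
    split_ifs with hw
    · rw [lef_comp_mul (expC_classInner (hS w hw).1 fun g => expC_const (χ g)) r0, ← classInner_lefFun_left (hS w hw).1,
        (hS w hw).2]
    · rw [RW_zero f hw, classInner_zero_left, lef_const]
  simp only [h5] at h4
  rw [g2] at h4
  have h6 := congrArg (starRingEnd ℂ) h4
  simp only [cas, map_add, map_mul, map_sum, apply_ite (starRingEnd ℂ), map_zero, classInner_conj_symm, map_sub, map_natCast,
    map_ofNat] at h6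
  rw [cas]
  push_cast at h6
  linear_combination h6 / 2

end Cfsg.Agent.OM.Cas
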