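import Cfsg.Agent.OM.Cas.Defs

/-!
# OM, the Shintani correspondence and the orders of the split groups (helper83)
-/

set_option autoImplicit false
set_option linter.unusedSectionVars false

namespace Cfsg.Agent.OM.Cas

open Cfsg Cfsg.Agent.DL Cfsg.Agent.DL.Uni Cfsg.Agent.Tits.Core Cfsg.Agent.Tits.Exchange Polynomial

namespace Iso

variable {Y : Type} [Group Y]

theorem uni_map {p : ℕ} (φ : MulAut Y) (v : Y) : IsUni p (φ v) ↔ IsUni p v := by
  unfold IsUni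
  rw [MulEquiv.orderOf_eq]

theorem fix_of_lang {F : MulAut Y} {b z : Y} (h : b⁻¹ * F b = z⁻¹ * F z) : F (b * z⁻¹) = b * z⁻¹ := by
  rw [map_mul, map_inv, inv_mul_eq_iff_eq_mul.1 h, mul_assoc, mul_inv_cancel_right]

theorem lang_mul (F : MulAut Y) (a x : Y) : x⁻¹ * (a⁻¹ * F a) * F x = (a * x)⁻¹ * F (a * x) := by
  rw [map_mul]; group

end Iso

open Iso in
/-- **The Shintani correspondence.** -/
theorem boxIso : BoxIso := by
  intro p _ k _ _ Y _ N _ _ ρ F G _ D d _ σ hσ _ _ a ha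
  have hc : ∀ y, σ (F y) = F (σ y) := fun y => by rw [hσ]; exact Mk.pow_comm_apply F d y
  have hf : ∀ y, F y = y → σ y = y := fun y h => by rw [hσ]; exact Mk.pow_fix h d
  have hm : ∀ y ∈ G ⊓ Mk.fix σ, F y ∈ G ⊓ Mk.fix σ := fun y hy =>
    Mk.mkfx (D.F_mem_G hy.1) (show σ (F y) = F y by rw [hc, show σ y = y from hy.2])
  have hh : ∀ g, (a g)⁻¹ * F (a g) ∈ G ⊓ Mk.fix σ := fun g =>
    Mk.mkfx (mul_mem (inv_mem (ha g).1) (D.F_mem_G (ha g).1)) (show σ _ = _ by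
      rw [map_mul, map_inv, hc, (ha g).2, map_mul, show F g = g from g.2.2]; group)
  refine ⟨⟨hm, hh, fun κ => ?_⟩, ⟨fun x _ v hv => (uni_map (MulAut.conj x) v).2 hv, fun v _ => uni_map F v,
    fun v hv => ?_⟩, fun g g' x hx h => ?_⟩
  · choose z hz1 hz2 using fun y : ↥(G ⊓ Mk.fix σ) => D.lang_G y.2.1
    let L : GF F G × ↥(G ⊓ Mk.fix σ) → ↥(G ⊓ Mk.fix σ) := fun w =>
      ⟨(w.2 : Y)⁻¹ * ((a w.1)⁻¹ * F (a w.1)) * F w.2, mul_mem (mul_mem (inv_mem w.2.2) (hh w.1)) (hm _ w.2.2)⟩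
    let Ψ : GF F G × ↥(G ⊓ Mk.fix σ) → GF F G × ↥(G ⊓ Mk.fix σ) := fun w =>
      (⟨a w.1 * w.2 * (z (L w))⁻¹, G.mul_mem (G.mul_mem (ha _).1 w.2.2.1) (G.inv_mem (hz1 _)),
        fix_of_lang ((lang_mul F _ _).symm.trans (hz2 (L w)))⟩, L w)
    have hΨ : Function.Injective Ψ := fun w w' h => by
      have h1 : L w = L w' := congrArg Prod.snd h
      have h2 : a w.1 * w.2 * (z (L w))⁻¹ = a w'.1 * w'.2 * (z (L w'))⁻¹ := congrArg (fun t => (t.1 : Y)) h
      rw [h1, mul_left_inj] at h2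
      have h3 := congrArg σ h2
      rw [map_mul, map_mul, (ha _).2, (ha _).2, show σ w.2 = w.2 from w.2.2.2, show σ w'.2 = w'.2 from w'.2.2.2,
        mul_assoc, mul_assoc, h2, mul_left_inj] at h3
      have h4 : w.1 = w'.1 := Subtype.ext h3
      rw [h4, mul_right_inj] at h2
      exact Prod.ext h4 (Subtype.ext h2)
    have h5 := (Finite.injective_iff_bijective.1 hΨ).sum_comp fun w => κ w.2
    rw [Fintype.sum_prod_type, Fintype.sum_prod_type] at h5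
    rw [Nat.card_eq_fintype_card, ← nsmul_eq_mul, ← Finset.card_univ, ← Finset.sum_const]
    exact h5
  · obtain ⟨j, hj⟩ := hv
    exact ⟨j, by rw [orderOf_inv, hj]⟩
  · rw [lang_mul] at h
    have h1 := fix_of_lang h
    have h2 := hf _ h1
    rw [map_mul, map_inv, map_mul, (ha _).2, (ha _).2, show σ x = x from hx.2] at h2
    refine isConj_iff.2 ⟨⟨a g' * (a g * x)⁻¹, G.mul_mem (ha _).1 (G.inv_mem (G.mul_mem (ha _).1 hx.1)), h1⟩, Subtype.ext ?_⟩
    show a g' * (a g * x)⁻¹ * g * (a g' * (a g * x)⁻¹)⁻¹ = g'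
    rw [mul_inv_eq_iff_eq_mul, ← mul_left_inj (g : Y)⁻¹, mul_inv_cancel_right]
    conv_lhs => rw [← h2]
    group

/-- **The orders of the split groups.** -/
theorem boxOrd : BoxOrd := by
  intro p _ k _ _ Y _ N _ _ ρ F G _ D d e H
  classical
  let _ : Fintype D.W := Fintype.ofFinite _
  obtain ⟨n₀, h3, h4⟩ := H.exists_rp D.wF
  have A := Mk.frame D H h3 h4
  set r := Fintype.card D.R
  set s := (Nodes.BNOf.RGD.Pos D.cs D.h).ncard
  have key : ∀ m, 0 < m → Nat.card ↥(G ⊓ Mk.fix ((F ^ d) ^ m)) =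
      ((p ^ e) ^ m - 1) ^ r * ((p ^ e) ^ m) ^ s * ∑ w : D.W, ((p ^ e) ^ m) ^ D.cs.length w := fun m hm => by
    have := A.fin m hm
    have : Finite ↥(D.T ⊓ Mk.fix ((F ^ d) ^ m)) :=
      Finite.of_injective _ (Subgroup.inclusion_injective (inf_le_inf_right _ D.T_le_G))
    let _ := Fintype.ofFinite ↥(G ⊓ Mk.fix ((F ^ d) ^ m))
    let _ := Fintype.ofFinite ↥(D.T ⊓ Mk.fix ((F ^ d) ^ m))
    have h1 := (A.level m).sum_G (A.card_X hm) (F := fun _ => 1) ⟨fun _ _ _ => rfl, fun _ _ _ => rfl⟩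
    have h2 : Nat.card ↥(D.T ⊓ Mk.fix ((F ^ d) ^ m)) = ((p ^ e) ^ m - 1) ^ r := by
      rw [← pow_mul, Mk.fix_eq_fix, (H.mul hm).fix_eq, (H.mul hm).card_T, pow_mul]
    simp only [Finset.sum_const, Finset.card_univ, nsmul_eq_mul, mul_one, ← Nat.card_eq_fintype_card, h2,
      A.cardU m hm] at h1
    rw [Finset.mul_sum]
    exact_mod_cast h1.trans (Finset.sum_congr rfl fun w _ => (mul_assoc _ _ _).symm)
  have hp : 2 ≤ p ^ e := A.tor.two_le
  refine ⟨(X - C 1) ^ r * X ^ s * ∑ w : D.W, X ^ D.cs.length w, r + s + (Fintype.card D.W + D.cs.length (w0 D.cs)),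
    (((monic_X_sub_C 1).pow r).mul (monic_X_pow s)).mul ?_, fun m hm => ⟨?_, ?_⟩⟩
  · rw [← Finset.add_sum_erase _ _ (Finset.mem_univ (w0 D.cs))]
    refine monic_X_pow_add ((degree_sum_le _ _).trans_lt ((Finset.sup_lt_iff (WithBot.bot_lt_coe _)).2 fun w hw => ?_))
    rw [degree_X_pow]
    exact_mod_cast lt_of_not_ge fun h => (Finset.mem_erase.1 hw).1 (eq_w0_of_length D.cs h)
  · have h1 : 1 ≤ (p ^ e) ^ m := Nat.one_le_pow _ _ (by omega)
    rw [key m hm]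
    simp only [eval_mul, eval_pow, eval_sub, eval_X, eval_C, eval_finsetSum]
    push_cast [Nat.cast_sub h1]
    rfl
  · have h1 : 2 ≤ (p ^ e) ^ m := hp.trans (Nat.le_self_pow hm.ne' _)
    rw [key m hm, pow_add, pow_add, pow_add]
    refine Nat.mul_le_mul (Nat.mul_le_mul_right _ (Nat.pow_le_pow_left (Nat.sub_le _ _) _)) ?_
    refine (Finset.sum_le_card_nsmul _ _ _ fun w _ => Nat.pow_le_pow_right (by omega) (length_le_w0 D.cs w)).trans ?_
    rw [smul_eq_mul, Finset.card_univ]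
    exact Nat.mul_le_mul_right _ (Nat.lt_pow_self h1).le

end Cfsg.Agent.OM.Cas
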