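import Cfsg.Agent.OM.Cas.Defs

/-!
# OM/Cas: weights with integral moments are pure (lead)
-/

set_option autoImplicit false

namespace Cfsg.Agent.OM.Cas

open Cfsg.Agent.DL.Lef Filter Topology Polynomial
open scoped ComplexConjugate

namespace Mean

variable {ι : Type}

theorem bd (β : ι → ℂ) (i : ι) (t : Finset ι) : (∀ a ∈ t, β a ≠ β i) → ∀ c : ι → ℂ, c i ≠ 0 →
    (∃ C : ℝ, ∀ m : ℕ, ‖c i * β i ^ m + ∑ a ∈ t, c a * β a ^ m‖ ≤ C) → ‖β i‖ ≤ 1 := by
  classical
  induction t using Finset.induction_on with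
  | empty =>
    rintro - c hc ⟨C, hC⟩
    by_contra h
    have h1 := (tendsto_pow_atTop_atTop_of_one_lt (not_le.1 h)).const_mul_atTop (norm_pos_iff.2 hc)
    obtain ⟨m, hm⟩ := (h1.eventually_gt_atTop C).exists
    have h2 := hC m
    rw [Finset.sum_empty, add_zero, norm_mul, norm_pow] at h2
    exact hm.not_ge h2
  | insert a t ha ih =>
    rintro h c hc ⟨C, hC⟩
    refine ih (fun b hb => h b (Finset.mem_insert_of_mem hb)) (fun b => c b * (β b - β a))
      (mul_ne_zero hc (sub_ne_zero.2 (h a (Finset.mem_insert_self a t)).symm)) ⟨C + ‖β a‖ * C, fun m => ?_⟩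
    have h1 : c i * (β i - β a) * β i ^ m + ∑ b ∈ t, c b * (β b - β a) * β b ^ m =
        (c i * β i ^ (m + 1) + ∑ b ∈ insert a t, c b * β b ^ (m + 1)) -
          β a * (c i * β i ^ m + ∑ b ∈ insert a t, c b * β b ^ m) := by
      have h2 : ∑ b ∈ t, c b * (β b - β a) * β b ^ m =
          ∑ b ∈ t, c b * β b ^ (m + 1) - β a * ∑ b ∈ t, c b * β b ^ m := by
        rw [Finset.mul_sum, ← Finset.sum_sub_distrib]
        exact Finset.sum_congr rfl fun b _ => by ring
      rw [Finset.sum_insert ha, Finset.sum_insert ha, h2]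
      ring
    rw [h1]
    refine (norm_sub_le _ _).trans (add_le_add (hC _) ?_)
    rw [norm_mul]
    exact mul_le_mul_of_nonneg_left (hC _) (norm_nonneg _)

/-- the mean -/
def Mn (f : ℕ → ℂ) (l : ℂ) : Prop := Tendsto (fun n : ℕ => (n : ℝ)⁻¹ • ∑ i ∈ Finset.range n, f i) atTop (𝓝 l)

theorem Mn.sub {f g : ℕ → ℂ} {a b : ℂ} (h : Mn f a) (h' : Mn g b) : Mn (fun m => f m - g m) (a - b) := by
  simpa only [Mn, Finset.sum_sub_distrib, smul_sub] using Tendsto.sub h h'

theorem Mn.sum (s : Finset ι) {f : ι → ℕ → ℂ} {a : ι → ℂ} (h : ∀ i ∈ s, Mn (f i) (a i)) :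
    Mn (fun m => ∑ i ∈ s, f i m) (∑ i ∈ s, a i) := by
  refine (tendsto_finsetSum s h).congr fun n => ?_
  rw [Finset.sum_comm, Finset.smul_sum]

open Classical in
theorem mn_geom (c : ℂ) {γ : ℂ} (h : ‖γ‖ ≤ 1) : Mn (fun m => c * γ ^ m) (if γ = 1 then c else 0) := by
  split_ifs with h1
  · subst h1
    simp only [one_pow, mul_one]
    exact tendsto_const_nhds.cesaro_smul
  · have h2 : Tendsto (fun n : ℕ => (n : ℝ)⁻¹ * (‖c‖ * (2 / ‖γ - 1‖))) atTop (𝓝 0) := by
      simpa using tendsto_inv_atTop_nhds_zero_nat.mul_const (‖c‖ * (2 / ‖γ - 1‖))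
    refine squeeze_zero_norm (fun n => ?_) h2
    rw [norm_smul, ← Finset.mul_sum, geom_sum_eq h1, norm_mul, norm_div, Real.norm_of_nonneg (by positivity)]
    gcongr
    refine (norm_sub_le _ _).trans ?_
    rw [norm_pow, norm_one]
    linarith [pow_le_one₀ (n := n) (norm_nonneg γ) h]

theorem core (s : Finset ι) (β : ι → ℂ) (hβ : Set.InjOn β s) (n : ι → ℤ) (hn : ∀ i ∈ s, n i ≠ 0) (w : ℕ → ℝ)
    (hw : ∀ m, 0 ≤ w m ∧ w m ≤ 1) (h : Tendsto (fun m => ∑ i ∈ s, (n i : ℂ) * β i ^ m - w m) atTop (𝓝 0)) :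
    ∃ ν : ℤ, Tendsto w atTop (𝓝 ν) := by
  classical
  have hw' : ∀ m, ‖(w m : ℂ)‖ ≤ 1 := fun m => by
    rw [Complex.norm_real, Real.norm_of_nonneg (hw m).1]
    exact (hw m).2
  have h1 : ∀ i ∈ s, ‖β i‖ ≤ 1 := fun i hi => by
    obtain ⟨C, hC⟩ := h.norm.bddAbove_range
    refine bd β i (s.erase i) (fun a ha e => Finset.ne_of_mem_erase ha (hβ (Finset.mem_of_mem_erase ha) hi e))
      (fun a => n a) (Int.cast_ne_zero.2 (hn i hi)) ⟨C + 1, fun m => ?_⟩
    rw [Finset.add_sum_erase s (fun a => (n a : ℂ) * β a ^ m) hi, ← sub_add_cancel (∑ i ∈ s, (n i : ℂ) * β i ^ m) (w m)]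
    exact (norm_add_le _ _).trans (add_le_add (hC ⟨m, rfl⟩) (hw' m))
  have h2 : Mn (fun m => w m) (∑ i ∈ s, if β i = 1 then (n i : ℂ) else 0) := by
    simpa only [sub_sub_cancel, sub_zero] using (Mn.sum s fun i hi => mn_geom (n i) (h1 i hi)).sub h.cesaro_smul
  have h3 : Mn (fun m => (∑ i ∈ s, (n i : ℂ) * β i ^ m) * conj (∑ i ∈ s, (n i : ℂ) * β i ^ m))
      (∑ i ∈ s, if ‖β i‖ = 1 then (n i : ℂ) ^ 2 else 0) := by
    have h4 := Mn.sum s fun i hi => Mn.sum s fun k hk => mn_geom ((n i : ℂ) * n k) (γ := β i * conj (β k)) (by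
      rw [norm_mul, Complex.norm_conj]
      exact mul_le_one₀ (h1 i hi) (norm_nonneg _) (h1 k hk))
    convert h4 using 1
    · ext m
      rw [map_sum, Finset.sum_mul_sum]
      refine Finset.sum_congr rfl fun i _ => Finset.sum_congr rfl fun k _ => ?_
      rw [map_mul, map_intCast, map_pow]
      ring
    · refine Finset.sum_congr rfl fun i hi => ?_
      rw [Finset.sum_eq_single_of_mem i hi fun k hk hki => if_neg fun e => hki (hβ hk hi ?_), sq]
      · refine if_congr ?_ rfl rfl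
        rw [Complex.mul_conj, Complex.normSq_eq_norm_sq, Complex.ofReal_eq_one, pow_eq_one_iff_of_nonneg (norm_nonneg _)
          two_ne_zero]
      · have h5 := congrArg norm e
        rw [norm_mul, Complex.norm_conj, norm_one] at h5
        have h6 : ‖β k‖ = 1 := le_antisymm (h1 k hk) (h5.ge.trans (mul_le_of_le_one_left (norm_nonneg _) (h1 i hi)))
        have h7 : β k * conj (β k) = 1 := by rw [Complex.mul_conj, Complex.normSq_eq_norm_sq, h6]; simp
        exact mul_right_cancel₀ (right_ne_zero_of_mul_eq_one e) (h7.trans e.symm)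
  have h4 : Tendsto (fun m => (∑ i ∈ s, (n i : ℂ) * β i ^ m) * conj (∑ i ∈ s, (n i : ℂ) * β i ^ m) - (w m : ℂ) ^ 2)
      atTop (𝓝 0) := by
    have h5 : Tendsto (fun m => 2 * ‖∑ i ∈ s, (n i : ℂ) * β i ^ m - w m‖ + ‖∑ i ∈ s, (n i : ℂ) * β i ^ m - w m‖ ^ 2)
        atTop (𝓝 0) := by simpa using (h.norm.const_mul 2).add (h.norm.pow 2)
    refine squeeze_zero_norm (fun m => ?_) h5
    generalize ∑ i ∈ s, (n i : ℂ) * β i ^ m = u
    have h6 : u * conj u - (w m : ℂ) ^ 2 = w m * conj (u - w m) + (u - w m) * w m + (u - w m) * conj (u - w m) := by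
      rw [map_sub, Complex.conj_ofReal]
      ring
    rw [h6]
    refine (norm_add₃_le).trans ?_
    rw [norm_mul, norm_mul, norm_mul, Complex.norm_conj]
    nlinarith [hw' m, norm_nonneg (u - w m)]
  have h5 := h2.sub (h3.sub h4.cesaro_smul)
  simp only [sub_sub_cancel, sub_zero] at h5
  have h6 := ge_of_tendsto' ((Complex.continuous_re.tendsto _).comp h5) (b := 0) fun N => by
    rw [Function.comp_apply, Complex.smul_re, Complex.re_sum]
    refine smul_nonneg (by positivity) (Finset.sum_nonneg fun m _ => ?_)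
    rw [← Complex.ofReal_pow, ← Complex.ofReal_sub, Complex.ofReal_re]
    nlinarith [hw m]
  have h7 : ((∑ i ∈ s, if β i = 1 then (n i : ℂ) else 0) - ∑ i ∈ s, if ‖β i‖ = 1 then (n i : ℂ) ^ 2 else 0) =
      ((-∑ i ∈ s, ((if ‖β i‖ = 1 then n i ^ 2 else 0) - if β i = 1 then n i else 0) : ℤ) : ℂ) := by
    push_cast
    rw [Finset.sum_sub_distrib, neg_sub]
  rw [h7, Complex.intCast_re, Int.cast_nonneg_iff, neg_nonneg] at h6
  have h8 : ∀ i ∈ s, 0 ≤ (if ‖β i‖ = 1 then n i ^ 2 else 0) - if β i = 1 then n i else 0 := fun i _ => by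
    by_cases e : β i = 1
    · rw [if_pos e, if_pos (by rw [e, norm_one])]
      rcases le_or_gt (n i) 0 with h0 | h0 <;> nlinarith
    · rw [if_neg e, sub_zero]
      split_ifs <;> positivity
  have h9 := (Finset.sum_eq_zero_iff_of_nonneg h8).1 (le_antisymm h6 (Finset.sum_nonneg h8))
  have h10 : Tendsto (fun m => ∑ i ∈ s, (n i : ℂ) * β i ^ m) atTop (𝓝 (∑ i ∈ s, if β i = 1 then (n i : ℂ) else 0)) := by
    refine tendsto_finsetSum s fun i hi => ?_
    split_ifs with e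
    · simp only [e, one_pow, mul_one]
      exact tendsto_const_nhds
    · have h11 : ‖β i‖ < 1 := lt_of_le_of_ne (h1 i hi) fun e' => by
        have h12 := h9 i hi
        rw [if_pos e', if_neg e, sub_zero] at h12
        exact hn i hi (pow_eq_zero_iff two_ne_zero |>.1 h12)
      simpa using (tendsto_pow_atTop_nhds_zero_of_norm_lt_one h11).const_mul (n i : ℂ)
  refine ⟨∑ i ∈ s, if β i = 1 then n i else 0, ?_⟩
  have h11 := (Complex.continuous_re.tendsto _).comp (h10.sub h)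
  simp only [Function.comp_def, sub_sub_cancel, sub_zero, Complex.ofReal_re] at h11
  convert h11 using 2
  rw [← Complex.intCast_re]
  push_cast
  rfl

theorem core' {S : ℕ → ℂ} (hS : ExpZ S) {R : ℂ} (hR : R ≠ 0) {g : ℕ → ℂ} (hg : Tendsto g atTop (𝓝 1)) {w : ℕ → ℝ}
    (hw : ∀ m, 0 < m → 0 ≤ w m ∧ w m ≤ 1) (h : ∀ m, 0 < m → S m = R ^ m * (g m * w m)) :
    ∃ ν : ℤ, Tendsto w atTop (𝓝 ν) := by
  choose n hn using hS.2
  have h1 : (fun m => if m = 0 then 0 else w m) =ᶠ[atTop] w :=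
    (eventually_gt_atTop 0).mono fun m hm => if_neg hm.ne'
  obtain ⟨ν, hν⟩ := core (spec S).support (· / R) (fun a _ b _ e => (div_left_inj' hR).1 e) n
    (fun i hi e => Finsupp.mem_support_iff.1 hi (by rw [hn, e, Int.cast_zero])) (fun m => if m = 0 then 0 else w m)
    (fun m => by
      split_ifs with e
      · exact ⟨le_rfl, zero_le_one⟩
      · exact hw m (Nat.pos_of_ne_zero e)) (by
      have h2 : Tendsto (fun m => ‖g m - 1‖) atTop (𝓝 0) := by simpa using (hg.sub_const 1).norm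
      refine squeeze_zero_norm' ((eventually_gt_atTop 0).mono fun m hm => ?_) h2
      have h3 : ∑ i ∈ (spec S).support, (n i : ℂ) * (i / R) ^ m = g m * w m := by
        rw [← mul_right_inj' (pow_ne_zero m hR), ← h m hm, hS.expC.rep.eq m hm, Finset.mul_sum]
        refine Finset.sum_congr rfl fun i _ => ?_
        rw [hn, div_pow, id]
        field_simp
      rw [h3, if_neg hm.ne', ← sub_one_mul, norm_mul, Complex.norm_real, Real.norm_of_nonneg (hw m hm).1]
      exact mul_le_of_le_one_right (norm_nonneg _) (hw m hm).2)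
  exact ⟨ν, hν.congr' h1⟩

theorem expZ_prod {Q J : ℕ} (hQ : 1 < Q) {o : ℕ → ℂ} {w : ℕ → ℕ → ℂ} (ε : ℕ → ℤ)
    (h : ∀ k, ExpZ fun m => o m * ∑ j ∈ Finset.range (J + 1), ((Q : ℂ) ^ m) ^ (j * k) * w j m) (I : Finset ℕ) :
    ∀ k, ExpZ fun m => o m * ∑ j ∈ Finset.range (J + 1),
      (∏ a ∈ I, (ε a : ℂ) * (((Q : ℂ) ^ m) ^ j - ((Q : ℂ) ^ m) ^ a)) * (((Q : ℂ) ^ m) ^ (j * k) * w j m) := by
  classical
  induction I using Finset.induction_on with
  | empty => simpa using h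
  | insert a I ha ih =>
    intro k
    have h1 := expZ_geom 1 (x := (Q : ℂ) ^ a) (pow_ne_zero _ (Nat.cast_ne_zero.2 (by omega)))
      ((isIntegral_natCast Q).pow a)
    refine (((ih (k + 1)).sub (h1.mul (ih k))).zsmul (ε a)).congr fun m _ => ?_
    simp only [Finset.mul_sum, ← Finset.sum_sub_distrib, Finset.prod_insert ha]
    refine Finset.sum_congr rfl fun j _ => ?_
    rw [Int.cast_one, one_mul, ← pow_mul (Q : ℂ) a, mul_comm a m, pow_mul (Q : ℂ) m a, mul_add_one, pow_add]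
    ring

theorem lim {Q J : ℕ} (hQ : 1 < Q) {O : ℤ[X]} (hO : O.Monic) {w : ℕ → ℕ → ℝ}
    (hw : ∀ j ≤ J, ∀ m, 0 < m → 0 ≤ w j m ∧ w j m ≤ 1)
    (h : ∀ k, ExpZ fun m => ((O.eval ((Q : ℤ) ^ m) : ℤ) : ℂ) *
      ∑ j ∈ Finset.range (J + 1), ((Q : ℂ) ^ m) ^ (j * k) * (w j m : ℂ)) {j : ℕ} (hj : j ≤ J) :
    ∃ ν : ℤ, Tendsto (w j) atTop (𝓝 ν) := by
  classical
  have h0 : (Q : ℂ) ≠ 0 := Nat.cast_ne_zero.2 (by omega)
  have hy : Tendsto (fun m : ℕ => ((Q : ℂ) ^ m)⁻¹) atTop (𝓝 0) := by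
    simp only [← inv_pow]
    refine tendsto_pow_atTop_nhds_zero_of_norm_lt_one ?_
    rw [norm_inv, Complex.norm_natCast]
    exact inv_lt_one_of_one_lt₀ (by exact_mod_cast hQ)
  have h1 : Tendsto (fun m : ℕ => eval₂ (Int.castRingHom ℂ) ((Q : ℂ) ^ m)⁻¹ O.reverse) atTop (𝓝 1) := by
    have h2 := ((O.reverse.continuous_eval₂ (Int.castRingHom ℂ)).tendsto 0).comp hy
    rwa [eval₂_at_zero, coeff_zero_reverse, hO.leadingCoeff, map_one] at h2
  have h2 : Tendsto (fun m : ℕ => ∏ a ∈ (Finset.range (J + 1)).erase j,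
      (1 - ((Q : ℂ) ^ m)⁻¹ ^ (max j a - min j a))) atTop (𝓝 1) := by
    have h3 := tendsto_finsetProd ((Finset.range (J + 1)).erase j) (a := fun _ => (1 : ℂ))
      (f := fun a (m : ℕ) => 1 - ((Q : ℂ) ^ m)⁻¹ ^ (max j a - min j a)) (x := atTop) fun a ha => by
        have h4 : max j a - min j a ≠ 0 := by
          have := Finset.ne_of_mem_erase ha
          omega
        simpa [h4] using (hy.pow (max j a - min j a)).const_sub 1
    simpa using h3
  refine core' (expZ_prod hQ (fun a => if a < j then 1 else -1) h ((Finset.range (J + 1)).erase j) 0)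
    (R := (Q : ℂ) ^ (O.natDegree + ∑ a ∈ (Finset.range (J + 1)).erase j, max j a)) (pow_ne_zero _ h0)
    (by simpa using h1.mul h2) (hw j hj) fun m _ => ?_
  have hx : (Q : ℂ) ^ m ≠ 0 := pow_ne_zero _ h0
  have h3 : ((O.eval ((Q : ℤ) ^ m) : ℤ) : ℂ) = eval₂ (Int.castRingHom ℂ) ((Q : ℂ) ^ m) O := by
    rw [← eq_intCast (Int.castRingHom ℂ), ← eval₂_hom]
    simp
  rw [← pow_mul, mul_comm _ m, pow_mul, h3]
  generalize (Q : ℂ) ^ m = x at hx
  have := invertibleOfNonzero hx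
  rw [← eval₂_reverse_mul_pow, invOf_eq_inv, Finset.sum_eq_single_of_mem j (Finset.mem_range.2 (by omega))
    fun i hi hij => mul_eq_zero_of_left (Finset.prod_eq_zero (Finset.mem_erase.2 ⟨hij, hi⟩) (by rw [sub_self, mul_zero])) _,
    pow_add, ← Finset.prod_pow_eq_pow_sum]
  have h4 : ∏ a ∈ (Finset.range (J + 1)).erase j, (((if a < j then 1 else -1 : ℤ) : ℂ) * (x ^ j - x ^ a)) =
      (∏ a ∈ (Finset.range (J + 1)).erase j, x ^ max j a) *
        ∏ a ∈ (Finset.range (J + 1)).erase j, (1 - x⁻¹ ^ (max j a - min j a)) := by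
    rw [← Finset.prod_mul_distrib]
    refine Finset.prod_congr rfl fun a _ => ?_
    have h5 : x ^ max j a * x⁻¹ ^ (max j a - min j a) = x ^ min j a := by
      rw [inv_pow, mul_inv_eq_iff_eq_mul₀ (pow_ne_zero _ hx), ← pow_add]
      congr 1
      omega
    rw [mul_sub (x ^ max j a), h5]
    split_ifs with e
    · rw [max_eq_left e.le, min_eq_right e.le]
      simp
    · rw [max_eq_right (not_lt.1 e), min_eq_left (not_lt.1 e)]
      simp
  rw [h4]
  ring

end Mean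

theorem boxMean : BoxMean := by
  intro Q J O w A hQ hO hA h1 h2 h3
  have hw : ∀ j ≤ J, ∀ m, 0 < m → 0 ≤ w j m ∧ w j m ≤ 1 := fun j hj m hm => ⟨(h1 j m hm).2, by
    rw [← h2 m hm]
    exact Finset.single_le_sum (f := fun j => w j m) (fun i _ => (h1 i m hm).2) (Finset.mem_range.2 (by omega))⟩
  choose! ν hν using fun j (hj : j ≤ J) => Mean.lim hQ hO hw h3 hj
  have h4 : ∑ j ∈ Finset.range (J + 1), (ν j : ℝ) = 1 :=
    tendsto_nhds_unique (tendsto_finsetSum _ fun j hj => hν j (Nat.lt_succ_iff.1 (Finset.mem_range.1 hj)))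
      (tendsto_const_nhds.congr' ((eventually_gt_atTop 0).mono fun m hm => (h2 m hm).symm))
  obtain ⟨j, hj, h5⟩ := Finset.exists_ne_zero_of_sum_ne_zero (h4.trans_ne one_ne_zero)
  have hj' := Nat.lt_succ_iff.1 (Finset.mem_range.1 hj)
  have h6 : (0 : ℝ) ≤ ν j := ge_of_tendsto (hν j hj') ((eventually_gt_atTop 0).mono fun m hm => (hw j hj' m hm).1)
  have h7 : (ν j : ℝ) ≤ 1 := le_of_tendsto (hν j hj') ((eventually_gt_atTop 0).mono fun m hm => (hw j hj' m hm).2)
  have h8 : ν j = 1 := by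
    have a : 0 ≤ ν j := by exact_mod_cast h6
    have b : ν j ≤ 1 := by exact_mod_cast h7
    have c : ν j ≠ 0 := by exact_mod_cast h5
    omega
  have h9 := hν j hj'
  rw [h8, Int.cast_one] at h9
  obtain ⟨B, hB⟩ := eventually_atTop.1 (h9.eventually
    ((hA.subset (Set.sdiff_subset (t := {1}))).isClosed.isOpen_compl.mem_nhds (x := 1) fun e => e.2 rfl))
  exact ⟨j, hj', B, fun m hm => by_contra fun e => hB m hm.le ⟨(h1 j m (by omega)).1, e⟩⟩

end Cfsg.Agent.OM.Cas
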