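import Mathlib
import Cfsg.Agent.Blocks.ConvCentral
import Cfsg.Agent.Blocks.AvgTrace
import Cfsg.Agent.Characters.Core

/-!
# OM, box Pur : polynomials in a class sum and their twisted kernels (helper35)
-/

set_option autoImplicit false
set_option linter.unusedSectionVars false

namespace Cfsg.Agent.OM.Cas.Pur

open Cfsg Polynomial Finset Matrix
open scoped ComplexConjugate

variable {S : Type} [Group S] [Fintype S] [DecidableEq S] {H : Type} [Fintype H]

open Classical in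
/-- the matrix of the convolution with the sum of the elements of `U` -/
noncomputable def Zm (U : Set S) : Matrix S S ℂ := of fun x y => if x⁻¹ * y ∈ U then 1 else 0

/-- a polynomial in the matrix -/
noncomputable def Em (U : Set S) (p : ℚ[X]) : Matrix S S ℂ := aeval (Zm U) p

/-- the twisted average -/
noncomputable def pS (φ : S ≃* S) (η : H → S) (κ : S → ℂ) (g : H) : ℂ := ∑ x, κ (x⁻¹ * η g * φ x)

/-- the twisted kernel -/
noncomputable def KK (φ : S ≃* S) (η : H → S) (E : Matrix S S ℂ) : Matrix H H ℂ :=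
  of fun g g' => ∑ x, E 1 ((η g)⁻¹ * (x⁻¹ * η g' * φ x))

/-- the hypotheses -/
structure Su (φ : S ≃* S) (η : H → S) (U : Set S) : Prop where
  iso : ∀ κ : S → ℂ, ∑ g, pS φ η κ g = Nat.card H * ∑ y, κ y
  cj : ∀ x v, x * v * x⁻¹ ∈ U ↔ v ∈ U
  map : ∀ v, φ v ∈ U ↔ v ∈ U
  inv : ∀ v, v⁻¹ ∈ U ↔ v ∈ U

variable {φ : S ≃* S} {η : H → S} {U : Set S}

theorem Em_ind {P : ℚ[X] → Prop} (h0 : ∀ a, P (C a)) (h1 : ∀ p q, P p → P q → P (p + q)) (h2 : ∀ p, P p → P (p * X))
    (p : ℚ[X]) : P p :=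
  Polynomial.induction_on p h0 h1 fun n a h => by
    rw [pow_succ, ← mul_assoc]
    exact h2 _ h

theorem Em_add (p q : ℚ[X]) : Em U (p + q) = Em U p + Em U q := map_add _ _ _

theorem Em_mul (p q : ℚ[X]) : Em U (p * q) = Em U p * Em U q := map_mul _ _ _

theorem Em_X : Em U X = Zm U := aeval_X _

theorem Em_C (a : ℚ) (x y : S) : Em U (C a) x y = if x = y then (a : ℂ) else 0 := by
  rw [Em, aeval_C, algebraMap_matrix_apply]
  rfl

theorem Em_perm (σ : S ≃ S) (hσ : ∀ x y, (σ x)⁻¹ * σ y ∈ U ↔ x⁻¹ * y ∈ U) (p : ℚ[X]) :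
    ∀ x y, Em U p (σ x) (σ y) = Em U p x y := by
  induction p using Em_ind with
  | h0 a => intro x y; simp only [Em_C, σ.injective.eq_iff]
  | h1 p q hp hq => intro x y; simp only [Em_add, Matrix.add_apply, hp, hq]
  | h2 p hp =>
    intro x y
    simp only [Em_mul, Em_X, mul_apply]
    rw [← Equiv.sum_comp σ]
    exact sum_congr rfl fun w _ => by rw [hp, Zm, of_apply, of_apply, hσ]

theorem Em_left (p : ℚ[X]) (x y : S) : Em U p x y = Em U p 1 (x⁻¹ * y) := by
  have h := Em_perm (U := U) (Equiv.mulLeft x⁻¹) (fun a b => by simp [mul_assoc]) p x y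
  simp only [Equiv.coe_mulLeft, inv_mul_cancel] at h
  exact h.symm

theorem Em_rat (p : ℚ[X]) : ∀ x y, Em U p x y ∈ (Rat.castHom ℂ).range := by
  induction p using Em_ind with
  | h0 a =>
    intro x y
    rw [Em_C]
    split_ifs
    exacts [⟨a, rfl⟩, zero_mem _]
  | h1 p q hp hq => exact fun x y => by rw [Em_add]; exact add_mem (hp x y) (hq x y)
  | h2 p hp =>
    intro x y
    rw [Em_mul, Em_X, mul_apply]
    refine sum_mem fun w _ => mul_mem (hp x w) ?_
    rw [Zm, of_apply]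
    split_ifs
    exacts [one_mem _, zero_mem _]

theorem Em_eig {ψ : S → ℂ} {ω : ℂ} (h : Zm U *ᵥ ψ = ω • ψ) (p : ℚ[X]) : Em U p *ᵥ ψ = aeval ω p • ψ := by
  induction p using Em_ind with
  | h0 a =>
    funext x
    simp [mulVec, dotProduct, Em_C]
  | h1 p q hp hq => rw [Em_add, add_mulVec, hp, hq, map_add, add_smul]
  | h2 p hp => rw [Em_mul, Em_X, ← mulVec_mulVec, h, mulVec_smul, hp, map_mul, aeval_X, smul_smul, mul_comm]

open Classical in
theorem Zm_pow (n : ℕ) : ∀ x y, (Zm U ^ n) x y =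
    ∑ v : Fin n → S, if (∀ i, v i ∈ U) ∧ x * (List.ofFn v).prod = y then 1 else 0 := by
  induction n with
  | zero =>
    intro x y
    simp [one_apply]
  | succ n ih =>
    intro x y
    rw [pow_succ', mul_apply, ← Equiv.sum_comp (Equiv.mulLeft x), ← Equiv.sum_comp (Fin.consEquiv fun _ => S),
      Fintype.sum_prod_type]
    refine sum_congr rfl fun u _ => ?_
    rw [ih, mul_sum]
    refine sum_congr rfl fun v _ => ?_
    simp only [Zm, of_apply, Equiv.coe_mulLeft, inv_mul_cancel_left, Fin.consEquiv_apply, Fin.forall_fin_succ,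
      Fin.cons_zero, Fin.cons_succ, List.ofFn_succ, List.prod_cons, mul_assoc, ite_mul, one_mul, zero_mul, ← ite_and,
      and_assoc]

theorem KK_sum {ι : Type*} (s : Finset ι) (c : ι → ℂ) (E : ι → Matrix S S ℂ) :
    KK φ η (∑ i ∈ s, c i • E i) = ∑ i ∈ s, c i • KK φ η (E i) := by
  ext g g'
  simp only [KK, of_apply, Matrix.sum_apply, Matrix.smul_apply, smul_eq_mul, mul_sum]
  exact sum_comm

namespace Su

variable (h : Su φ η U)
include h

theorem tw (a b : S) (p : ℚ[X]) (x y : S) : Em U p (a * φ x * b) (a * φ y * b) = Em U p x y :=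
  Em_perm ((φ.toEquiv.trans (Equiv.mulLeft a)).trans (Equiv.mulRight b)) (fun x y => by
    rw [← h.map (x⁻¹ * y), ← h.cj b⁻¹ (φ _)]
    simp [mul_assoc]) p x y

theorem cls (p : ℚ[X]) : IsClassFunction S (Em U p 1) := fun x a => by
  have h1 := Em_perm (MulAut.conj a).toEquiv (fun x y => by
    rw [← h.cj a (x⁻¹ * y)]
    simp [mul_assoc]) p 1 x
  simpa using h1

theorem sym (p : ℚ[X]) : (Em U p)ᵀ = Em U p := by
  have h1 : (Zm U)ᵀ = Zm U := by
    ext x y
    rw [transpose_apply, Zm, of_apply, of_apply, ← h.inv (x⁻¹ * y), _root_.mul_inv_rev, inv_inv]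
  induction p using Em_ind with
  | h0 a =>
    ext x y
    simp only [transpose_apply, Em_C, eq_comm]
  | h1 p q hp hq => rw [Em_add, transpose_add, hp, hq]
  | h2 p hp => rw [Em_mul, transpose_mul, hp, Em_X, h1, ← Em_X, ← Em_mul, ← Em_mul, mul_comm]

theorem inv' (p : ℚ[X]) (x : S) : Em U p 1 x⁻¹ = Em U p 1 x := by
  rw [← h.sym p, transpose_apply, Em_left, inv_inv, mul_one, h.sym]

open Classical in
theorem eig {ψ : S → ℂ} (hψ : IsIrrCharacter S ψ) :
    Zm U *ᵥ ψ = ((∑ v, if v ∈ U then ψ v else 0) / ψ 1) • ψ := by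
  funext x
  have h1 := Blocks.ConvCentral.lin_conv hψ (f := fun v => if v ∈ U then 1 else 0) (f' := fun v => if v = x then 1 else 0)
    fun v a => if_congr (h.cj a v) rfl rfl
  simp only [Blocks.ConvCentral.lin_def, Blocks.ConvCentral.conv_apply, sum_mul, ite_mul, one_mul, zero_mul,
    sum_ite_eq', mem_univ, if_true] at h1
  rw [Pi.smul_apply, smul_eq_mul, div_mul_eq_mul_div, eq_div_iff (Blocks.ConvCentral.irr_one_ne_zero hψ), sum_mul]
  simp only [ite_mul, zero_mul]
  rw [← h1, sum_comm, mulVec, dotProduct, sum_mul, ← Equiv.sum_comp (Equiv.mulLeft x)]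
  refine sum_congr rfl fun v _ => ?_
  simp only [Zm, of_apply, Equiv.coe_mulLeft, inv_mul_cancel_left, inv_mul_eq_iff_eq_mul]
  have h2 := Characters.Core.isIrr_isClassFunction hψ (v * x) x
  rw [← mul_assoc, mul_inv_cancel_right] at h2
  split_ifs <;> simp [h2]

open Classical in
/-- polynomials with the same values at the eigenvalues -/
theorem ext {p q : ℚ[X]} (hpq : ∀ ψ, IsIrrCharacter S ψ → aeval ((∑ v, if v ∈ U then ψ v else 0) / ψ 1) p =
    aeval ((∑ v, if v ∈ U then ψ v else 0) / ψ 1) q) : Em U p = Em U q := by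
  have := Characters.Core.finite_irr (G := S)
  have := Fintype.ofFinite (IrrCharacter S)
  have h1 : IsClassFunction S (Pi.single 1 1) := fun x a => by
    simp only [Pi.single_apply, mul_inv_eq_one, mul_eq_left]
  have h2 : Em U p *ᵥ Pi.single 1 1 = Em U q *ᵥ Pi.single 1 1 := by
    rw [Characters.Core.classFunction_eq_sum h1, mulVec_sum, mulVec_sum]
    exact sum_congr rfl fun ψ _ => by rw [mulVec_smul, mulVec_smul, Em_eig (h.eig ψ.2), Em_eig (h.eig ψ.2), hpq _ ψ.2]
  ext x y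
  have h3 := congrFun h2 (x⁻¹ * y)
  simp only [mulVec_single_one, col_apply] at h3
  rw [Em_left, Em_left q, ← h.sym p, ← h.sym q, transpose_apply, transpose_apply, h3]

/-- the action on twisted averages -/
theorem act (p : ℚ[X]) (κ : S → ℂ) :
    KK φ η (Em U p) *ᵥ pS φ η κ = (Nat.card H : ℂ) • pS φ η fun y => ∑ s, Em U p 1 s * κ (y * s) := by
  funext g
  have h1 := h.iso fun y => Em U p 1 ((η g)⁻¹ * y) * ∑ c, κ (c⁻¹ * y * φ c)
  have h2 : ∑ y, Em U p 1 ((η g)⁻¹ * y) * ∑ c, κ (c⁻¹ * y * φ c) =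
      pS φ η (fun y => ∑ s, Em U p 1 s * κ (y * s)) g := by
    simp only [mul_sum, pS]
    rw [sum_comm]
    refine sum_congr rfl fun c _ => ?_
    rw [← Equiv.sum_comp ((MulAut.conj (φ c)).toEquiv.trans (Equiv.mulLeft (η g)))]
    refine sum_congr rfl fun s _ => ?_
    simp [h.cls p s, mul_assoc, ← h.cls p s (φ c)]
  rw [Pi.smul_apply, smul_eq_mul, ← h2, ← h1, mulVec, dotProduct]
  refine sum_congr rfl fun g' _ => ?_
  rw [KK, of_apply, sum_mul, pS, pS]
  refine sum_congr rfl fun a _ => ?_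
  rw [← Equiv.sum_comp (Equiv.mulLeft a)]
  simp [mul_assoc]

theorem KK_sym (p : ℚ[X]) : (KK φ η (Em U p))ᵀ = KK φ η (Em U p) := by
  ext g g'
  rw [transpose_apply, KK, of_apply, of_apply, ← Equiv.sum_comp (Equiv.inv S)]
  refine sum_congr rfl fun x _ => ?_
  rw [← h.inv', ← h.cls p _ (φ x)⁻¹]
  simp [mul_assoc]

theorem KK_mul (p q : ℚ[X]) : KK φ η (Em U p) * KK φ η (Em U q) = (Nat.card H : ℂ) • KK φ η (Em U (p * q)) := by
  ext g g'
  have h1 := congrFun (h.act p fun y => Em U q 1 ((η g')⁻¹ * y)) g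
  rw [Matrix.smul_apply, ← h.KK_sym q, ← h.KK_sym (p * q), mul_apply]
  refine h1.trans (congrArg ((Nat.card H : ℂ) * ·) (sum_congr rfl fun x _ => ?_))
  rw [Em_mul, mul_apply, ← Equiv.sum_comp (Equiv.inv S)]
  refine sum_congr rfl fun s _ => ?_
  rw [Equiv.inv_apply, h.inv', Em_left q s⁻¹, ← h.cls q _ s]
  simp [mul_assoc]

theorem KK_one {χ : H → ℂ} (hχ : ∀ g g' x, η g' = x⁻¹ * η g * φ x → χ g' = χ g) :
    KK φ η (Em U 1) *ᵥ χ = (Nat.card H : ℂ) • χ := by
  funext g
  have h1 := h.iso fun y => if η g = y then χ g else 0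
  rw [sum_ite_eq, if_pos (mem_univ _)] at h1
  rw [Pi.smul_apply, smul_eq_mul, ← h1, mulVec, dotProduct]
  refine sum_congr rfl fun g' _ => ?_
  rw [KK, of_apply, sum_mul, pS]
  refine sum_congr rfl fun x _ => ?_
  rw [Em, map_one, one_apply, if_congr eq_inv_mul_iff_mul_eq rfl rfl, mul_one]
  split_ifs with h2
  · rw [one_mul, hχ _ _ _ h2]
  · rw [zero_mul]

theorem KK_int {p : ℚ[X]} (hp : Em U (p * p) = Em U p) (g g' : H) : ∃ n : ℤ, KK φ η (Em U p) g g' = n := by
  obtain ⟨q, hq⟩ : KK φ η (Em U p) g g' ∈ (Rat.castHom ℂ).range := sum_mem fun x _ => Em_rat p _ _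
  set σ : Equiv.Perm S := (φ.toEquiv.trans (Equiv.mulLeft (η g'))).trans (Equiv.mulRight (φ (η g))⁻¹) with hσ
  have h1 : ∀ x y, Em U p (σ x) (σ y) = Em U p x y := h.tw _ _ p
  have h2 : Commute (σ.permMatrix ℂ) (Em U p) := by
    ext x y
    rw [Equiv.Perm.permMatrix, PEquiv.toMatrix_toPEquiv_mul, PEquiv.mul_toMatrix_toPEquiv, submatrix_apply,
      submatrix_apply, id, id, ← h1 x, Equiv.apply_symm_apply]
  have h6 : σ.permMatrix ℂ ^ orderOf σ = 1 := by
    have h7 : ∀ n : ℕ, σ.permMatrix ℂ ^ n = (σ ^ n).permMatrix ℂ := fun n => by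
      induction n with
      | zero => rw [pow_zero, pow_zero, permMatrix_one]
      | succ n ih => rw [pow_succ, ih, pow_succ', permMatrix_mul]
    rw [h7, pow_orderOf_eq_one, permMatrix_one]
  have h3 : (σ.permMatrix ℂ * Em U p) ^ (orderOf σ + 1) = σ.permMatrix ℂ * Em U p := by
    rw [h2.mul_pow, IsIdempotentElem.pow_succ_eq _ ((Em_mul p p).symm.trans hp), pow_succ, h6, one_mul]
  have h4 := Blocks.AvgTrace.isIntegral_trace_of_pow_succ (f := toLinAlgEquiv' (σ.permMatrix ℂ * Em U p))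
    (orderOf_pos σ).ne' (by rw [← map_pow, h3])
  have h5 : LinearMap.trace ℂ _ (toLinAlgEquiv' (σ.permMatrix ℂ * Em U p)) = algebraMap ℚ ℂ q := by
    refine (trace_toLin'_eq _).trans (Eq.trans ?_ hq.symm)
    rw [Equiv.Perm.permMatrix, PEquiv.toMatrix_toPEquiv_mul, trace, KK, of_apply,
      ← Equiv.sum_comp (Equiv.mulRight (η g))]
    refine sum_congr rfl fun x _ => ?_
    rw [diag_apply, submatrix_apply, id, ← h.sym, transpose_apply, Em_left, h.sym]
    simp [hσ, mul_assoc]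
  rw [h5, isIntegral_algebraMap_iff (algebraMap ℚ ℂ).injective] at h4
  obtain ⟨n, rfl⟩ := IsIntegrallyClosed.isIntegral_iff.1 h4
  exact ⟨n, hq.symm.trans (by simp)⟩

end Su

end Cfsg.Agent.OM.Cas.Pur
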