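import Cfsg.Agent.OM.Cas.Defs
import Cfsg.Agent.OM.Cas.PurA

/-!
# OM, box Pur (helper35)
-/

set_option autoImplicit false
set_option linter.unusedSectionVars false

namespace Cfsg.Agent.OM.Cas.Pur

open Cfsg Polynomial Finset Matrix
open scoped ComplexConjugate

variable {S : Type} [Group S] [Fintype S] [DecidableEq S] {H : Type} [Fintype H] {φ : S ≃* S} {η : H → S} {U : Set S}

theorem quad {A : Matrix H H ℂ} {n : ℂ} (hs : Aᴴ = A) (hA : A * A = n • A) (χ : H → ℂ) :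
    ((∑ g, Complex.normSq ((A *ᵥ χ) g) : ℝ) : ℂ) = n * (star χ ⬝ᵥ A *ᵥ χ) := by
  have h1 : star (A *ᵥ χ) ⬝ᵥ A *ᵥ χ = n * (star χ ⬝ᵥ A *ᵥ χ) := by
    rw [star_mulVec, hs, ← dotProduct_mulVec, mulVec_mulVec, hA, smul_mulVec, dotProduct_smul, smul_eq_mul]
  rw [← h1, dotProduct]
  push_cast
  exact sum_congr rfl fun g _ => Complex.normSq_eq_conj_mul_self

theorem bound {K : H → H → ℤ} {n : ℕ} (hs : ∀ g g', K g g' = K g' g) (hK : ∀ g, ∑ g', K g g' * K g' g = n * K g g)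
    (g g' : H) : |K g g'| ≤ n := by
  have h1 : ∀ g', K g g' ^ 2 ≤ n * K g g := fun g' => by
    rw [← hK, sq]
    nth_rewrite 2 [hs]
    exact single_le_sum (f := fun x => K g x * K x g) (fun x _ => by rw [hs x]; exact mul_self_nonneg _) (mem_univ g')
  have h2 : K g g ≤ n := by nlinarith [h1 g]
  exact abs_le_of_sq_le_sq (by nlinarith [h1 g']) (by positivity)

theorem Su.herm (h : Su φ η U) (p : ℚ[X]) : (KK φ η (Em U p))ᴴ = KK φ η (Em U p) := by
  ext g g'
  obtain ⟨q, hq⟩ : KK φ η (Em U p) g g' ∈ (Rat.castHom ℂ).range := sum_mem fun x _ => Em_rat p _ _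
  rw [conjTranspose_apply, ← h.KK_sym, transpose_apply, h.KK_sym, ← hq]
  exact map_ratCast (starRingEnd ℂ) q

theorem exists_lag {Q : ℕ} (hQ : 1 < Q) (J : ℕ) : ∃ L : ℕ → ℚ[X], ∀ i ≤ J, ∀ (j : ℕ) (ω : ℂ), ω ^ 2 = (Q : ℂ) ^ i →
    aeval ω (L j) = if j = i then 1 else 0 := by
  refine ⟨fun j => (Lagrange.basis (range (J + 1)) (fun i => (Q : ℚ) ^ i) j).comp (X ^ 2), fun i hi j ω hω => ?_⟩
  have h1 : (Q : ℂ) ^ i = algebraMap ℚ ℂ ((Q : ℚ) ^ i) := by simp
  rw [aeval_comp, map_pow, aeval_X, hω, h1, aeval_algebraMap_apply, coe_aeval_eq_eval]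
  split_ifs with h
  · rw [h, Lagrange.eval_basis_self (fun a _ b _ hab => pow_right_injective₀ (by positivity)
      (by exact_mod_cast hQ.ne') hab) (mem_range.2 (Nat.lt_succ_of_le hi)), map_one]
  · rw [Lagrange.eval_basis_of_ne h (mem_range.2 (Nat.lt_succ_of_le hi)), map_zero]

open Classical in
theorem Su.pur (h : Su φ η U) [Group H] {Q J : ℕ} (hQ : 1 < Q)
    (hψ : ∀ ψ : S → ℂ, IsIrrCharacter S ψ → ∃ j ≤ J, (∑ v, if v ∈ U then ψ v else 0) ^ 2 = (Q : ℂ) ^ j * ψ 1 ^ 2)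
    {χ : H → ℂ} (h1 : classInner χ χ = 1) (hχ : ∀ g g' x, η g' = x⁻¹ * η g * φ x → χ g' = χ g) :
    ∃ (K : ℕ → H × H → ℤ) (w : ℕ → ℝ), (∀ j z, |K j z| ≤ Nat.card H) ∧
      (∀ j, (w j : ℂ) = classInner (fun z => (K j z : ℂ)) (sq2 χ)) ∧ (∀ j, 0 ≤ w j) ∧ ∑ j ∈ range (J + 1), w j = 1 ∧
      (∀ (k : ℕ) (z : H × H), KK φ η (Zm U ^ (2 * k)) z.1 z.2 = ∑ j ∈ range (J + 1), (Q : ℂ) ^ (j * k) * K j z) ∧
      ∀ j ≤ J, w j = 1 → ∀ κ : S → ℂ, classInner (pS φ η fun y => ∑ s, (Zm U ^ 2) 1 s * κ (y * s)) χ =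
        (Q : ℂ) ^ j * classInner (pS φ η κ) χ := by
  obtain ⟨L, hL⟩ := exists_lag hQ J
  have hx : ∀ p q : ℚ[X], (∀ i ≤ J, ∀ ω : ℂ, ω ^ 2 = (Q : ℂ) ^ i → aeval ω p = aeval ω q) → Em U p = Em U q :=
    fun p q hpq => h.ext fun ψ hi => by
      obtain ⟨j, hj, h2⟩ := hψ ψ hi
      exact hpq j hj _ (by rw [div_pow, h2, mul_div_cancel_right₀ _ (pow_ne_zero _ (Blocks.ConvCentral.irr_one_ne_zero hi))])
  have hi : ∀ j, Em U (L j * L j) = Em U (L j) := fun j => hx _ _ fun i hi ω hω => by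
    rw [map_mul, hL i hi j ω hω]
    split_ifs <;> simp
  have hk : ∀ k, Em U (X ^ (2 * k)) = ∑ j ∈ range (J + 1), (Q : ℂ) ^ (j * k) • Em U (L j) := fun k => by
    rw [hx _ (∑ j ∈ range (J + 1), C ((Q : ℚ) ^ (j * k)) * L j) fun i hi ω hω => by
      simp only [map_sum, map_mul, map_pow, aeval_X, aeval_C, hL i hi _ ω hω, mul_ite, mul_one, mul_zero, sum_ite_eq',
        mem_range, Nat.lt_succ_of_le hi, if_true, map_natCast]
      rw [pow_mul, pow_mul, hω], Em, map_sum]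
    refine sum_congr rfl fun j _ => ?_
    rw [← smul_eq_C_mul, map_smul, ← algebraMap_smul ℂ]
    simp [Em]
  choose K hK using fun j => h.KK_int (hi j)
  have hn : (Nat.card H : ℂ) ≠ 0 := Nat.cast_ne_zero.2 Nat.card_pos.ne'
  have hA : ∀ j, KK φ η (Em U (L j)) * KK φ η (Em U (L j)) = (Nat.card H : ℂ) • KK φ η (Em U (L j)) := fun j => by
    rw [h.KK_mul, hi]
  have h2 : star χ ⬝ᵥ χ = Nat.card H := by
    rw [classInner, inv_mul_eq_iff_eq_mul₀ hn, mul_one] at h1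
    rw [← h1, dotProduct_comm]
    rfl
  have hw : ∀ j, ((((Nat.card H : ℝ) ^ 3)⁻¹ * ∑ g, Complex.normSq ((KK φ η (Em U (L j)) *ᵥ χ) g) : ℝ) : ℂ) =
      ((Nat.card H : ℂ) ^ 2)⁻¹ * (star χ ⬝ᵥ KK φ η (Em U (L j)) *ᵥ χ) := fun j => by
    rw [Complex.ofReal_mul, quad (h.herm _) (hA j)]
    push_cast
    field_simp
  refine ⟨fun j z => K j z.1 z.2, fun j => ((Nat.card H : ℝ) ^ 3)⁻¹ * ∑ g, Complex.normSq ((KK φ η (Em U (L j)) *ᵥ χ) g),
    fun j z => bound (fun g g' => ?_) (fun g => ?_) _ _, fun j => ?_,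
    fun j => mul_nonneg (by positivity) (sum_nonneg fun _ _ => Complex.normSq_nonneg _), ?_, fun k z => ?_,
    fun j hj hwj κ => ?_⟩
  · have h3 := congrFun₂ (h.KK_sym (L j)) g' g
    rw [transpose_apply, hK, hK] at h3
    exact_mod_cast h3
  · have h3 := congrFun₂ (hA j) g g
    simp only [mul_apply, Matrix.smul_apply, hK, smul_eq_mul] at h3
    exact_mod_cast h3
  · rw [hw, classInner, Nat.card_prod, Nat.cast_mul, sq, Fintype.sum_prod_type]
    simp only [dotProduct, mulVec, hK, mul_sum, sq2, map_mul, Complex.conj_conj, Pi.star_apply, RCLike.star_def]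
    exact sum_congr rfl fun g _ => sum_congr rfl fun g' _ => by ring
  · have h3 := hk 0
    simp only [mul_zero, pow_zero] at h3
    have h4 := h.KK_one hχ
    rw [h3, KK_sum, sum_mulVec] at h4
    simp only [one_smul] at h4
    rw [← Complex.ofReal_inj, Complex.ofReal_sum, sum_congr rfl fun j _ => hw j, ← mul_sum, ← dotProduct_sum, h4,
      dotProduct_smul, h2, smul_eq_mul, ← sq, inv_mul_cancel₀ (pow_ne_zero _ hn), Complex.ofReal_one]
  · have h3 := hk k
    rw [Em, map_pow, aeval_X] at h3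
    simp only [h3, KK_sum, Matrix.sum_apply, Matrix.smul_apply, hK, smul_eq_mul]
  · have h3 := hw j
    beta_reduce at hwj
    rw [hwj, Complex.ofReal_one, eq_inv_mul_iff_mul_eq₀ (pow_ne_zero _ hn), mul_one] at h3
    have h4 := quad (A := (Nat.card H : ℂ) • 1 - KK φ η (Em U (L j))) (n := Nat.card H)
      (by rw [conjTranspose_sub, h.herm, conjTranspose_smul, conjTranspose_one, star_natCast])
      (by rw [sub_mul, smul_mul_assoc, one_mul, mul_sub, hA, mul_smul_comm, mul_one, sub_self, sub_zero]) χ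
    rw [sub_mulVec, dotProduct_sub, smul_mulVec, one_mulVec, dotProduct_smul, h2, ← h3, smul_eq_mul, ← sq, sub_self,
      mul_zero, Complex.ofReal_eq_zero, sum_eq_zero_iff_of_nonneg fun _ _ => Complex.normSq_nonneg _] at h4
    have h5 : KK φ η (Em U (L j)) *ᵥ χ = (Nat.card H : ℂ) • χ :=
      (sub_eq_zero.1 (funext fun g => Complex.normSq_eq_zero.1 (h4 g (mem_univ g)))).symm
    have h6 : Em U (X ^ 2 * L j) = ∑ i ∈ {j}, (Q : ℂ) ^ j • Em U (L i) := by
      rw [sum_singleton, hx _ (C ((Q : ℚ) ^ j) * L j) fun i hi ω hω => by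
        simp only [map_mul, map_pow, aeval_X, aeval_C, hL i hi _ ω hω, hω, map_natCast]
        split_ifs with h7
        · rw [h7]
        · simp, ← smul_eq_C_mul, Em, map_smul, ← algebraMap_smul ℂ]
      simp [Em]
    have h7 : KK φ η (Em U (X ^ 2)) *ᵥ χ = ((Q : ℂ) ^ j * Nat.card H) • χ := by
      refine smul_right_injective _ hn ?_
      simp only
      rw [← mulVec_smul, ← h5, mulVec_mulVec, h.KK_mul, h6, KK_sum, sum_singleton, smul_mulVec, smul_mulVec, h5,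
        smul_smul ((Q : ℂ) ^ j)]
    have h8 := congrArg (fun v => star χ ⬝ᵥ v) (h.act (X ^ 2) κ)
    simp only [dotProduct_smul, smul_eq_mul] at h8
    rw [dotProduct_mulVec, ← h.herm, ← star_mulVec, h7, star_smul, smul_dotProduct, Em, map_pow, aeval_X] at h8
    simp only [star_mul', star_pow, star_natCast, smul_eq_mul] at h8
    have h9 : ∀ v : H → ℂ, classInner v χ = (Nat.card H : ℂ)⁻¹ * (star χ ⬝ᵥ v) := fun v => by
      rw [dotProduct_comm]
      rfl
    rw [h9, h9]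
    field_simp
    refine mul_left_cancel₀ hn ?_
    rw [← h8]
    ring

end Cfsg.Agent.OM.Cas.Pur

namespace Cfsg.Agent.OM.Cas

open Cfsg Finset Pur

/-- **[Pur]** -/
theorem boxPur : BoxPur := by
  classical
  intro Y _ F S _ H _ _ h Un Q J hS hC hQ hψ χ h1 hχ
  let φ₀ : S →* S := (F.toMonoidHom.comp S.subtype).codRestrict S fun y => hS.map y y.2
  let φ : S ≃* S := MulEquiv.ofBijective φ₀ (Finite.injective_iff_bijective.1 fun a b hab =>
    Subtype.ext (F.injective (congrArg Subtype.val hab)))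
  let η : H → S := fun g => ⟨h g, hS.mem g⟩
  have hp : ∀ κ : Y → ℂ, ph F S h κ = pS φ η fun y => κ y := fun κ => rfl
  have hU : Su φ η {v : S | (v : Y) ∈ Un} :=
    { iso := fun κ => by
        have h2 := hS.iso (Function.extend Subtype.val κ 0)
        simpa only [hp, Subtype.val_injective.extend_apply] using h2
      cj := fun x v => ⟨fun h2 => by simpa [mul_assoc] using hC.conj _ (inv_mem x.2) _ h2, hC.conj _ x.2 _⟩
      map := fun v => hC.map v v.2
      inv := fun v => ⟨fun h2 => by simpa using hC.inv _ h2, hC.inv _⟩ }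
  obtain ⟨K, w, h2, h3, h4, h5, h6, h7⟩ := hU.pur (Q := Q) (J := J) hQ (fun ψ hi => by
    obtain ⟨j, hj, h2⟩ := hψ ψ hi
    exact ⟨j, hj, h2⟩) h1 fun g g' x hx => hχ g g' x x.2 (congrArg Subtype.val hx)
  refine ⟨K, w, h2, h3, h4, h5, fun k z => ?_, fun j hj hw κ => ?_⟩
  · have h8 : Nk F S Un h (2 * k) z = Nat.card {y : S × (Fin (2 * k) → S) // (∀ i, (y.2 i : Y) ∈ Un) ∧
        1 * (List.ofFn y.2).prod = (η z.1)⁻¹ * (y.1⁻¹ * η z.2 * φ y.1)} := by
      have key : ∀ (x : S) (v : Fin (2 * k) → S), 1 * (List.ofFn v).prod = (η z.1)⁻¹ * (x⁻¹ * η z.2 * φ x) ↔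
          h z.1 * (List.ofFn fun i => (v i : Y)).prod = (x : Y)⁻¹ * h z.2 * F x := fun x v => by
        rw [one_mul, eq_inv_mul_iff_mul_eq, Subtype.ext_iff, Subgroup.coe_mul, SubmonoidClass.coe_list_prod, List.map_ofFn]
        rfl
      exact Nat.card_congr
        { toFun := fun y => ⟨(⟨y.1.1, y.2.1⟩, fun i => ⟨y.1.2 i, (y.2.2.1 i).1⟩), fun i => (y.2.2.1 i).2,
            (key _ _).2 y.2.2.2⟩
          invFun := fun y => ⟨(y.1.1, fun i => y.1.2 i), y.1.1.2, fun i => ⟨(y.1.2 i).2, y.2.1 i⟩, (key _ _).1 y.2.2⟩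
          left_inv := fun _ => rfl
          right_inv := fun _ => rfl }
    have h9 := h6 k z
    simp only [KK, Matrix.of_apply, Zm_pow] at h9
    rw [← Fintype.sum_prod_type', sum_boole] at h9
    rw [h8, Nat.card_eq_fintype_card, Fintype.card_subtype]
    exact_mod_cast h9
  · rw [hp, hp, ← h7 j hj hw]
    congr 2
    funext y
    simp only [sq, Matrix.mul_apply, sum_mul]
    rw [sum_comm, zs, usum]
    refine sum_congr rfl fun v _ => ?_
    rw [← Equiv.sum_comp (Equiv.mulLeft v), zs, usum]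
    by_cases hv : (v : Y) ∈ Un <;> simp [Zm, hv, mul_assoc]

end Cfsg.Agent.OM.Cas
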