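import Cfsg.Agent.OM.Cas.Iso
import Cfsg.Agent.DL.Gd.Dat
import Cfsg.Agent.DL.Dw.Main

/-!
# OM, rationality of the kernels (helper83)
-/

set_option autoImplicit false
set_option linter.unusedSectionVars false

namespace Cfsg.Agent.OM.Cas

open Cfsg Cfsg.Agent.DL Cfsg.Agent.DL.Uni Cfsg.Agent.DL.Lef Cfsg.Agent.DL.Cn Cfsg.Agent.DL.Gd Cfsg.Agent.LangThm

namespace Sp

variable {p : ℕ} [Fact p.Prime] {k : Type} [Field k] [CharP k p] [IsAlgClosed k] {Y : Type} [Group Y] {N : Type}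
  [Fintype N] [DecidableEq N] {ρ : Y →* GL N k} {F : MulAut Y} {G : Subgroup Y}

theorem pow_eq_one {A : Matrix N N k} {j : ℕ} (h : A ^ p ^ j = 1) : A ^ p ^ Fintype.card N = 1 := by
  cases isEmpty_or_nonempty N
  · exact Subsingleton.elim _ _
  have h1 : IsNilpotent (A - 1) := ⟨p ^ j, by rw [sub_pow_char_pow_of_commute p j (Commute.one_right A), h, one_pow, sub_self]⟩
  have h2 := Matrix.aeval_self_charpoly (A - 1)
  rw [sub_eq_zero.1 (Matrix.isNilpotent_charpoly_sub_pow_of_isNilpotent h1).eq_zero, map_pow, Polynomial.aeval_X] at h2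
  have h3 := pow_eq_zero_of_le (Nat.lt_pow_self (Fact.out : p.Prime).one_lt).le h2
  rwa [sub_pow_char_pow_of_commute p _ (Commute.one_right A), one_pow, sub_eq_zero] at h3

theorem uni_iff (hρ : Function.Injective ρ) (v : Y) : IsUni p v ↔ rhoM ρ v ^ p ^ Fintype.card N = 1 := by
  refine ⟨fun ⟨j, hj⟩ => pow_eq_one (j := j) (by rw [← map_pow, ← hj, pow_orderOf_eq_one, map_one]), fun h => ?_⟩
  rw [← map_pow, ← map_one (rhoM ρ), (rhoM_injective hρ).eq_iff, ← orderOf_dvd_iff_pow_eq_one,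
    Nat.dvd_prime_pow Fact.out] at h
  exact h.imp fun _ m => m.2

/-- left translations on a constructible set of tuples -/
theorem spectral_tuple (D : Datum p ρ F G) {σ : MulAut Y} {e : ℕ} (he : 0 < e) (hσ : ∀ y, ρ (σ y) = frob p e (ρ y))
    {J K : Type} [Fintype J] [Group K] [Fintype K] (t : K →* J → Y) (ht : ∀ g j, σ (t g j) = t g j) {S : Set (J → Y)}
    (hC : Constr k ((fun w j => rhoM ρ (w j)) '' S)) (hS : ∀ g, ∀ w ∈ S, t g * w ∈ S)
    (hΦ : ∀ w ∈ S, (fun j => σ (w j)) ∈ S) :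
    Spectral K fun m g => (Nat.card {w // w ∈ S ∧ ∀ j, (σ ^ m) (w j) = t g j * w j} : ℂ) := by
  have hi := rhoM_injective D.amb.inj
  have h1 : ∀ (m : ℕ) (w : J → Y), (fun (w : J → Y) j => σ (w j))^[m] w = fun j => (σ ^ m) (w j) := fun m w => by
    induction m with
    | zero => rfl
    | succ m ih => rw [Function.iterate_succ_apply', ih, pow_succ']; rfl
  refine (spectral_of_constr' (permDwork_of_box Dw.boxDwork p k D.amb.lf) D.amb.lf he S (fun g w => t g * w)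
    (fun w _ => by rw [map_one, one_mul]) (fun g h w _ => by rw [map_mul, mul_assoc]) hS (fun w j => σ (w j)) hΦ
    (fun g w _ => funext fun j => by rw [Pi.mul_apply, map_mul, ht]; rfl)
    (fun w (z : J × N × N) => rhoM ρ (w z.1) z.2.1 z.2.2)
    (fun w _ w' _ m => funext fun j => hi (Matrix.ext fun a b => congrFun m (j, a, b))) (fun w _ z => ?_)
    fun g => ?_).congr fun m _ => funext fun g => congrArg Nat.cast (Nat.card_congr (Equiv.subtypeEquivRight fun w => ?_))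
  · rw [rhoM_apply, hσ]
    exact co_frob p _ (ρ (w z.1)) z.2
  · refine (hC.image (f := fun A : J → Matrix N N k => ((fun z : J × N × N => A z.1 z.2.1 z.2.2),
      fun z : J × N × N => (rhoM ρ (t g z.1) * A z.1) z.2.1 z.2.2))
      ((polyMap_pi fun z => (polyMap_apply z.1).entry _ _).prodMk
        (polyMap_pi fun z => ((polyMap_const _).mul (polyMap_apply z.1)).entry _ _))).congr fun z => ?_
    simp only [Set.mem_image, Set.mem_ofPred_eq, exists_exists_and_eq_and, Pi.mul_apply, map_mul]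
    exact exists_congr fun _ => and_congr_right fun _ => eq_comm
  · rw [h1, funext_iff]
    rfl

/-- the triples -/
def Tri (p : ℕ) (F : MulAut Y) (G : Subgroup Y) (n : ℕ) : Set (Bool ⊕ Fin n → Y) :=
  {w | (∀ j, w j ∈ G) ∧ (∀ i, IsUni p (w (.inr i))) ∧ (w (.inl false))⁻¹ * F (w (.inl false)) *
    (List.ofFn fun i => w (.inr i)).prod = (w (.inl true))⁻¹ * F (w (.inl true))}

theorem constr_tri (D : Datum p ρ F G) (n : ℕ) : Constr k ((fun w j => rhoM ρ (w j)) '' Tri p F G n) := by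
  have hi := rhoM_injective D.amb.inj
  let E := (Bool ⊕ Fin n) → Matrix N N k
  have h1 : ∀ j, PolyMap k fun z : E × E × E => z.1 j := fun j => polyMap_id.fst.apply j
  have h2 : ∀ j, PolyMap k fun z : E × E × E => z.2.1 j := fun j => polyMap_id.snd.fst.apply j
  have h3 : ∀ j, PolyMap k fun z : E × E × E => z.2.2 j := fun j => polyMap_id.snd.snd.apply j
  have hC : Constr k {A : E | ∃ B : E × E, (∀ j, A j * B.1 j = 1) ∧
      (∀ j, (A j, B.2 j) ∈ (rhoM ρ).prod ((rhoM ρ).comp F.toMonoidHom) '' G) ∧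
      (∀ i, A (.inr i) ^ p ^ Fintype.card N = 1) ∧
      B.1 (.inl false) * B.2 (.inl false) * ((List.finRange n).map fun i => A (.inr i)).prod =
        B.1 (.inl true) * B.2 (.inl true)} :=
    Constr.ex ((Constr.forall_fin fun j => Constr.eq ((h1 j).mul (h2 j)) (polyMap_const _)).and
      ((Constr.forall_fin fun j => Constr.mem (cg_graph D) ((h1 j).prodMk (h3 j))).and
        ((Constr.forall_fin fun i => Constr.eq ((h1 _).pow _) (polyMap_const _)).and
          (Constr.eq (((h2 _).mul (h3 _)).mul (PolyMap.list_prod _ fun i _ => h1 _)) ((h2 _).mul (h3 _))))))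
  have h4 : ∀ w : Bool ⊕ Fin n → Y, ((w (.inl false))⁻¹ * F (w (.inl false)) * (List.ofFn fun i => w (.inr i)).prod =
      (w (.inl true))⁻¹ * F (w (.inl true))) ↔ rhoM ρ (w (.inl false))⁻¹ * rhoM ρ (F (w (.inl false))) *
        ((List.finRange n).map fun i => rhoM ρ (w (.inr i))).prod =
          rhoM ρ (w (.inl true))⁻¹ * rhoM ρ (F (w (.inl true))) := fun w => by
    rw [← hi.eq_iff, map_mul, map_mul, map_mul, map_list_prod, List.ofFn_eq_map, List.map_map]
    rfl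
  refine hC.congr fun A => ⟨fun ⟨B, k1, k2, k3, k4⟩ => ?_, ?_⟩
  · choose w hw k5 using k2
    obtain rfl : (fun j => rhoM ρ (w j)) = A := funext fun j => congrArg Prod.fst (k5 j)
    have k6 : ∀ j, rhoM ρ (w j)⁻¹ = B.1 j := fun j => by
      rw [← mul_one (rhoM ρ _), ← k1 j, ← mul_assoc, ← map_mul, inv_mul_cancel, map_one, one_mul]
    have k7 : ∀ j, rhoM ρ (F (w j)) = B.2 j := fun j => congrArg Prod.snd (k5 j)
    exact ⟨w, ⟨hw, fun i => (uni_iff D.amb.inj _).2 (k3 i), (h4 w).2 (by rw [k6, k6, k7, k7]; exact k4)⟩, rfl⟩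
  · rintro ⟨w, hw, rfl⟩
    exact ⟨(fun j => rhoM ρ (w j)⁻¹, fun j => rhoM ρ (F (w j))), fun j => by rw [← map_mul, mul_inv_cancel, map_one],
      fun j => ⟨w j, hw.1 j, rfl⟩, fun i => (uni_iff D.amb.inj _).1 (hw.2.1 i), (h4 w).1 hw.2.2⟩

/-- the translations -/
def tr (H : Subgroup Y) (n : ℕ) : H × H →* Bool ⊕ Fin n → Y where
  toFun z := Sum.elim (fun b => if b then z.2 else z.1) fun _ => 1
  map_one' := funext fun j => by rcases j with (_ | _) | j <;> rfl
  map_mul' _ _ := funext fun j => by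
    rcases j with (_ | _) | j
    exacts [rfl, rfl, (one_mul 1).symm]

theorem prod_map {n : ℕ} (φ : MulAut Y) (v : Fin n → Y) : (List.ofFn fun i => φ (v i)).prod = φ (List.ofFn v).prod := by
  rw [map_list_prod, List.map_ofFn]
  rfl

/-- the count -/
theorem card_tri {σ : MulAut Y} (hG : ∀ y ∈ G, F y ∈ G) (hc : ∀ y, σ (F y) = F (σ y)) (a : GF F G → Y)
    (ha : ∀ g, a g ∈ G ∧ σ (a g) = g * a g) (n : ℕ) (z : GF F G × GF F G) :
    Nat.card {w // w ∈ Tri p F G n ∧ ∀ j, σ (w j) = tr (GF F G) n z j * w j} =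
      Nat.card ↥(G ⊓ Mk.fix σ) * Nk F (G ⊓ Mk.fix σ) {v | IsUni p v} (fun g => (a g)⁻¹ * F (a g)) n z := by
  have hm : ∀ y ∈ G ⊓ Mk.fix σ, F y ∈ G ⊓ Mk.fix σ := fun y hy =>
    Mk.mkfx (hG y hy.1) (show σ (F y) = F y by rw [hc, show σ y = y from hy.2])
  have h1 : ∀ g : GF F G, ∀ b ∈ G, σ b = g * b → (a g)⁻¹ * b ∈ G ⊓ Mk.fix σ := fun g b hb h =>
    Mk.mkfx (G.mul_mem (G.inv_mem (ha g).1) hb) (show σ _ = _ by rw [map_mul, map_inv, (ha g).2, h]; group)
  have h2 : ∀ g, ∀ x ∈ G ⊓ Mk.fix σ, σ (a g * x) = g * (a g * x) := fun g x hx => by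
    rw [map_mul, (ha g).2, show σ x = x from hx.2, mul_assoc]
  rw [Nk, ← Nat.card_prod]
  symm
  refine Nat.card_congr (Equiv.ofBijective (fun y => ⟨Sum.elim (fun b => if b then a z.2 * (y.2.1.1 * y.1) else a z.1 * y.1)
    fun i => MulAut.conj (F y.1)⁻¹ (y.2.1.2 i), ⟨fun j => ?_, fun i => (Iso.uni_map _ _).2 (y.2.2.2.1 i).2, ?_⟩,
      fun j => ?_⟩) ⟨fun y y' h => ?_, fun w => ?_⟩)
  · rcases j with (_ | _) | j
    · exact G.mul_mem (ha _).1 y.1.2.1
    · exact G.mul_mem (ha _).1 (mul_mem y.2.2.1 y.1.2).1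
    · exact (mul_mem (mul_mem (inv_mem (hm _ y.1.2)) (y.2.2.2.1 j).1) (inv_mem (inv_mem (hm _ y.1.2)))).1
  · show (a z.1 * y.1)⁻¹ * F (a z.1 * y.1) * (List.ofFn fun i => MulAut.conj (F y.1)⁻¹ (y.2.1.2 i)).prod =
      (a z.2 * (y.2.1.1 * y.1))⁻¹ * F (a z.2 * (y.2.1.1 * y.1))
    rw [prod_map, MulAut.conj_apply, eq_inv_mul_of_mul_eq y.2.2.2.2, map_mul, map_mul, map_mul]
    group
  · rcases j with (_ | _) | j
    · exact h2 _ _ y.1.2
    · exact h2 _ _ (mul_mem y.2.2.1 y.1.2)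
    · exact (mul_mem (mul_mem (inv_mem (hm _ y.1.2)) (y.2.2.2.1 j).1) (inv_mem (inv_mem (hm _ y.1.2)))).2.trans
        (one_mul _).symm
  · have h3 := congrFun (congrArg Subtype.val h)
    have h4 : y.1 = y'.1 := Subtype.ext (mul_left_cancel (h3 (.inl false)))
    have h5 : y.2.1.1 * y.1 = y'.2.1.1 * y'.1 := mul_left_cancel (h3 (.inl true))
    refine Prod.ext h4 (Subtype.ext (Prod.ext (mul_right_cancel (h4 ▸ h5)) (funext fun i => ?_)))
    have h6 : MulAut.conj (F y.1)⁻¹ (y.2.1.2 i) = MulAut.conj (F y'.1)⁻¹ (y'.2.1.2 i) := h3 (.inr i)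
    rw [h4] at h6
    exact (MulEquiv.injective _) h6
  · obtain ⟨w, ⟨k1, k2, k3⟩, k4⟩ := w
    have k5 := h1 z.1 _ (k1 _) (k4 (.inl false))
    have k6 := h1 z.2 _ (k1 _) (k4 (.inl true))
    refine ⟨(⟨_, k5⟩, ⟨((a z.2)⁻¹ * w (.inl true) * ((a z.1)⁻¹ * w (.inl false))⁻¹,
      fun i => MulAut.conj (F ((a z.1)⁻¹ * w (.inl false))) (w (.inr i))), mul_mem k6 (inv_mem k5),
      fun i => ⟨mul_mem (mul_mem (hm _ k5) (Mk.mkfx (k1 _) ((k4 (.inr i)).trans (one_mul _)))) (inv_mem (hm _ k5)),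
        (Iso.uni_map _ _).2 (k2 i)⟩, ?_⟩), Subtype.ext (funext fun j => ?_)⟩
    · rw [prod_map, MulAut.conj_apply, eq_inv_mul_of_mul_eq k3]
      simp only [map_mul, map_inv]
      group
    · rcases j with (_ | _) | j
      · exact mul_inv_cancel_left _ _
      · show a z.2 * (_ * _⁻¹ * _) = _
        rw [inv_mul_cancel_right, mul_inv_cancel_left]
      · show _⁻¹ * (_ * w (.inr j) * _⁻¹) * _⁻¹⁻¹ = _
        group

end Sp

open Sp in
/-- **Rationality of the kernels.** -/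
theorem boxSp : BoxSp := by
  intro p _ k _ _ Y _ N _ _ ρ F G _ D d e H _ a ha n
  refine (spectral_tuple D H.e_pos H.frob (tr (GF F G) n) (fun g j => ?_) (constr_tri D n) (fun g w hw => ⟨fun j => ?_,
    fun i => ?_, ?_⟩) fun w hw => ⟨fun j => pow_mem_G D d (hw.1 j), fun i => (Iso.uni_map _ _).2 (hw.2.1 i), ?_⟩).congr
    fun m hm => funext fun z => ?_
  · rcases j with (_ | _) | j
    exacts [Mk.pow_fix g.1.2.2 d, Mk.pow_fix g.2.2.2 d, map_one _]
  · rcases j with (_ | _) | j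
    exacts [G.mul_mem g.1.2.1 (hw.1 _), G.mul_mem g.2.2.1 (hw.1 _), G.mul_mem G.one_mem (hw.1 _)]
  · show IsUni p (1 * w (.inr i))
    rw [one_mul]
    exact hw.2.1 i
  · show (g.1 * w (.inl false))⁻¹ * F (g.1 * w (.inl false)) * (List.ofFn fun i => 1 * w (.inr i)).prod =
      (g.2 * w (.inl true))⁻¹ * F (g.2 * w (.inl true))
    rw [map_mul, map_mul, show F g.1 = g.1 from g.1.2.2, show F g.2 = g.2 from g.2.2.2]
    simpa only [one_mul, mul_inv_rev, mul_assoc, inv_mul_cancel_left] using hw.2.2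
  · have h := congrArg (F ^ d) hw.2.2
    rw [map_mul, map_mul, map_mul, map_inv, map_inv, Mk.pow_comm_apply, Mk.pow_comm_apply, ← prod_map] at h
    exact h
  · exact_mod_cast card_tri (fun _ => D.F_mem_G) (Mk.pow_pow_comm_apply F d m) (a m) (ha m hm) n z

end Cfsg.Agent.OM.Cas
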