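import Cfsg.Agent.OM.Cas.Defs
import Cfsg.Agent.LV.T.ShB

/-!
# OM, the labelled Shintani trace formula (helper4)
-/

set_option autoImplicit false
set_option maxHeartbeats 400000
set_option linter.unusedSectionVars false

namespace Cfsg.Agent.OM.Cas.Sh

open Cfsg Cfsg.Agent.DL Cfsg.Agent.DL.Mk Cfsg.Agent.DL.PP Cfsg.Agent.DL.Lef Cfsg.Agent.KZ.Lie Cfsg.Agent.DL.Asm
  Cfsg.Agent.DL.Uni Cfsg.Agent.Nodes.BNOf Cfsg.Agent.Nodes.Reps Cfsg.Agent.Tits.Roots Matrix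

section bn

variable {I W Y : Type} [Group W] [Group Y] {M : CoxeterMatrix I} {cs : CoxeterSystem M W} {G U T N : Subgroup Y}
  {π : Y → W} {n : I → Y} {X : I → Subgroup Y} (S : SBN cs G U T N π n X) [Fintype G] [Fintype U] {Q : ℕ}
  (hQ : ∀ i, Nat.card (X i) = Q)

theorem sum_ite (G : Subgroup Y) [Fintype G] (P : Y → Prop) [DecidablePred P] :
    ∑ z : G, (if P z then 1 else 0 : ℂ) = Nat.card {z : Y // z ∈ G ∧ P z} := by
  exact_mod_cast congrArg (Int.cast (R := ℂ)) (LV.T.Sh.sum_ite_card G P)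

include S hQ

open Classical in
/-- the average of the indicator function of `U a` -/
theorem avg_ind {a : Y} (ha : a ∈ N) (z : Y) :
    (Q : ℂ) ^ cs.length (π a) * ∑ u : U, (if z * u * a⁻¹ ∈ U then 1 else 0 : ℂ) =
      Fintype.card U * if z ∈ dc U a then 1 else 0 := by
  have h1 : ∀ z : Y, ∑ u : U, (if z * u * a⁻¹ ∈ U then 1 else 0 : ℂ) =
      (if z ∈ dc U a then 1 else 0) * ∑ u : U, (if a * u * a⁻¹ ∈ U then 1 else 0 : ℂ) := fun z => by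
    split_ifs with h
    · obtain ⟨u, hu, v, hv, rfl⟩ := h
      rw [one_mul, ← sum_mul_left (K := U) (fun x => if a * x * a⁻¹ ∈ U then 1 else 0) hv]
      refine Finset.sum_congr rfl fun x _ => if_congr ?_ rfl rfl
      rw [← U.mul_mem_cancel_left hu (y := a * (v * x) * a⁻¹)]
      simp only [mul_assoc]
    · rw [zero_mul]
      exact Finset.sum_eq_zero fun u _ => if_neg fun h1 => h ⟨_, h1, _, inv_mem u.2, by group⟩
  have h2 : ∑ z : G, ∑ u : U, (if (z : Y) * u * a⁻¹ ∈ U then 1 else 0 : ℂ) = Fintype.card U * Fintype.card U := by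
    rw [Finset.sum_comm, Finset.sum_congr rfl fun (u : U) _ => show _ = (Fintype.card U : ℂ) from ?_, Finset.sum_const,
      Finset.card_univ, nsmul_eq_mul]
    simp only [mul_assoc]
    rw [sum_mul_right (K := G) (fun x => if x ∈ U then 1 else 0) (mul_mem (S.U_le u.2) (inv_mem (S.N_le ha))),
      sum_ite G (· ∈ U), ← Nat.card_eq_fintype_card]
    exact congrArg _ (Nat.card_congr (Equiv.subtypeEquivRight fun z => ⟨fun h => h.2, fun h => ⟨S.U_le h, h⟩⟩))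
  have h3 : ∑ z : G, (if (z : Y) ∈ dc U a then 1 else 0 : ℂ) = Fintype.card U * (Q : ℂ) ^ cs.length (π a) := by
    rw [sum_ite G (· ∈ dc U a), ← Nat.card_eq_fintype_card, ← Nat.cast_pow, ← Nat.cast_mul, ← S.card_dc hQ ha]
    exact congrArg _ (Nat.card_congr (Equiv.subtypeEquivRight fun z => ⟨fun h => h.2, fun h => ⟨S.dc_le ha h, h⟩⟩))
  rw [Finset.sum_congr rfl fun (z : G) _ => h1 z, ← Finset.sum_mul, h3, mul_assoc] at h2
  rw [h1, mul_left_comm, mul_left_cancel₀ (Mk.card_ne_zero U) h2, mul_comm]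

open Classical in
theorem sum_dc {F : MulAut Y} (hU : ∀ u ∈ U, F u ∈ U) {a : Y} (ha : a ∈ N) (h : Y) :
    ∑ x : G, (if (x : Y)⁻¹ * h * F x ∈ dc U a then 1 else 0 : ℂ) =
      (Q : ℂ) ^ cs.length (π a) * Nat.card {x : Y // x ∈ G ∧ x⁻¹ * h * F x * a⁻¹ ∈ U} := by
  have h1 : Function.Bijective fun b : U => (⟨F b, hU _ b.2⟩ : U) :=
    Finite.injective_iff_bijective.1 fun b c e => Subtype.ext (F.injective (congrArg Subtype.val e))
  refine mul_left_cancel₀ (Mk.card_ne_zero U) ?_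
  rw [Finset.mul_sum, Finset.sum_congr rfl fun (x : G) _ => (avg_ind S hQ ha _).symm, ← Finset.mul_sum, mul_left_comm,
    Finset.sum_comm, ← h1.sum_comp, ← sum_ite G fun x => x⁻¹ * h * F x * a⁻¹ ∈ U,
    Finset.sum_congr rfl fun (u : U) _ => show _ = ∑ x : G, (if (x : Y)⁻¹ * h * F x * a⁻¹ ∈ U then 1 else 0 : ℂ) from ?_,
    Finset.sum_const, Finset.card_univ, nsmul_eq_mul]
  rw [← sum_mul_right (K := G) (fun x => if x⁻¹ * h * F x * a⁻¹ ∈ U then 1 else 0) (S.U_le u.2)]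
  refine Finset.sum_congr rfl fun x _ => if_congr ?_ rfl rfl
  rw [← U.mul_mem_cancel_left (inv_mem u.2) (y := (x : Y)⁻¹ * h * F x * F u * a⁻¹)]
  simp only [mul_assoc, map_mul, _root_.mul_inv_rev]

/-- the twisted sum of an equivariant function -/
theorem trace [Fintype T] [Fintype W] {F : MulAut Y} (hU : ∀ u ∈ U, F u ∈ U) (hG : ∀ g ∈ G, F g ∈ G) {N₀ : Subgroup Y}
    (hN : N₀ ≤ N) {Λ κ : Y → ℂ} {φ : W → ℂ} (hκ : Good U T N₀ π Λ κ φ) {r : W → Y} (h1 : ∀ w, r w ∈ N₀)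
    (h2 : ∀ w, π (r w) = w) {h : Y} (hh : h ∈ G) :
    ∑ x : G, κ ((x : Y)⁻¹ * h * F x) = ∑ w, φ w * ((Q : ℂ) ^ cs.length w *
      ∑ t : T, (Nat.card {x : Y // x ∈ G ∧ x⁻¹ * h * F x * (r w)⁻¹ * (t : Y)⁻¹ ∈ U} : ℂ) * Λ t) := by
  classical
  have h3 : ∀ (w : W) (t : T), (t : Y) * r w ∈ N := fun w t => mul_mem (S.T_le t.2) (hN (h1 w))
  have h4 : ∀ (w : W) (t : T), π (t * r w) = w := fun w t => by rw [S.π_T_mul t.2 (hN (h1 w)), h2]
  have h5 : ∀ z ∈ G, κ z = ∑ w, ∑ t : T, φ w * ((if z ∈ dc U (t * r w) then 1 else 0) * Λ t) := fun z hz => by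
    obtain ⟨u, hu, a, ha, v, hv, e⟩ := S.cover z hz
    have ht := S.mem_T_of_π_eq ha (hN (h1 (π a))) (h2 _).symm
    have h6 : z ∈ dc U (a * (r (π a))⁻¹ * r (π a)) := ⟨u, hu, v, hv, by rw [e, inv_mul_cancel_right]⟩
    have h7 : ∀ (w : W) (t : T), z ∈ dc U (t * r w) → (t : Y) * r w = a := fun w t h8 =>
      S.dc_uniq (h3 w t) ha h8 ⟨u, hu, v, hv, e⟩
    rw [Finset.sum_eq_single (π a), Finset.sum_eq_single (⟨_, ht⟩ : T), if_pos h6, hκ.bi.dc h6, hκ.eqv _ ht,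
      hκ.val _ (h1 _), h2, one_mul, mul_comm]
    · exact fun t _ h8 => by
        rw [if_neg fun h9 => h8 (Subtype.ext (eq_mul_inv_of_mul_eq (h7 _ t h9))), zero_mul, mul_zero]
    · simp
    · exact fun w _ h8 => Finset.sum_eq_zero fun t _ => by
        rw [if_neg fun h9 => h8 (by rw [← h7 w t h9, h4]), zero_mul, mul_zero]
    · simp
  rw [Finset.sum_congr rfl fun (x : G) _ => h5 _ (mul_mem (mul_mem (inv_mem x.2) hh) (hG _ x.2)), Finset.sum_comm]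
  refine Finset.sum_congr rfl fun w _ => ?_
  rw [Finset.sum_comm, Finset.mul_sum, Finset.mul_sum]
  refine Finset.sum_congr rfl fun t _ => ?_
  rw [← Finset.mul_sum, ← Finset.sum_mul, sum_dc S hQ hU (h3 w t), h4]
  simp only [mul_assoc, _root_.mul_inv_rev]

end bn

/-- untwisting -/
theorem cnt_tw {Y : Type} [Group Y] {F σ : MulAut Y} {G U : Subgroup Y} (hc : ∀ x, σ (F x) = F (σ x))
    {y a g b s t : Y} (hy : y ∈ G) (ha : a ∈ G) (hb : b ∈ G) (h1 : σ y = y) (h2 : σ a = g * a) (h3 : F g = g)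
    (h4 : σ s = s) (h5 : y * s * y⁻¹ = b * (F b)⁻¹) (h6 : σ b * t = b)
    (h7 : ∀ u, b⁻¹ * (y * u * y⁻¹) * b ∈ cj y U ↔ u ∈ U) :
    Nat.card {x : Y // x ∈ G ⊓ Mk.fix σ ∧ x⁻¹ * (a⁻¹ * F a) * F x * (y⁻¹ * F y)⁻¹ * s⁻¹ ∈ U ⊓ Mk.fix σ} =
      CF.cnt F.toMonoidHom σ.toMonoidHom G (cj y U) g t := by
  refine Nat.card_congr (Equiv.subtypeEquiv ((Equiv.mulLeft a).trans (Equiv.mulRight (y⁻¹ * b))) fun x => ?_)
  show (x ∈ G ∧ σ x = x) ∧ (_ ∈ U ∧ σ _ = _) ↔ a * x * (y⁻¹ * b) ∈ G ∧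
    (a * x * (y⁻¹ * b))⁻¹ * F (a * x * (y⁻¹ * b)) ∈ cj y U ∧ σ (a * x * (y⁻¹ * b)) = g * (a * x * (y⁻¹ * b)) * t⁻¹
  have h8 : σ (a * x * (y⁻¹ * b)) = g * (a * x * (y⁻¹ * b)) * t⁻¹ ↔ σ x = x := by
    rw [map_mul, map_mul, map_mul, map_inv, h1, h2, eq_mul_inv_of_mul_eq h6]
    simp only [mul_assoc, mul_right_inj, mul_left_inj]
  have h9 : (a * x * (y⁻¹ * b))⁻¹ * F (a * x * (y⁻¹ * b)) =
      b⁻¹ * (y * (x⁻¹ * (a⁻¹ * F a) * F x * (y⁻¹ * F y)⁻¹ * s⁻¹) * y⁻¹) * b := by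
    rw [show s = y⁻¹ * (b * (F b)⁻¹) * y by rw [← h5]; group]
    simp only [map_mul, map_inv]
    group
  rw [h8, h9, h7, mul_mem_cancel_right (mul_mem (inv_mem hy) hb), mul_mem_cancel_left ha, and_assoc]
  refine and_congr_right fun _ => ⟨fun h => ⟨h.2.1, h.1⟩, fun h => ⟨h.2, h.1, ?_⟩⟩
  simp only [map_mul, map_inv, hc, h.2, h1, h2, h3, h4]
  group

variable {p : ℕ} [Fact p.Prime] {k : Type} [Field k] [CharP k p] {Y : Type} [Group Y] {N : Type} [Fintype N]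
  [DecidableEq N] {ρ : Y →* GL N k} {F : MulAut Y} {G : Subgroup Y} [IsAlgClosed k] {D : Datum p ρ F G}

/-- the averaged count at the level `m` -/
theorem cmp_mul {d e : ℕ} (H : D.Split d e) {y : Y} (hy : y ∈ G) (hn : y⁻¹ * F y ∈ D.NN) (hd : (F ^ d) y = y)
    [Fintype ↥(cj y D.T ⊓ GF F G)] {m : ℕ} (hm : 0 < m) [Fintype ↥(D.T ⊓ Mk.fix ((F ^ d) ^ m))] (g : GF F G) {a : Y}
    (ha : a ∈ G) (h2 : ((F ^ d) ^ m) a = g * a) (θ : Y → ℂ) :
    ∑ t : ↥(D.T ⊓ Mk.fix ((F ^ d) ^ m)), (Nat.card {x : Y // x ∈ G ⊓ Mk.fix ((F ^ d) ^ m) ∧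
        x⁻¹ * (a⁻¹ * F a) * F x * (y⁻¹ * F y)⁻¹ * (t : Y)⁻¹ ∈ D.U ⊓ Mk.fix ((F ^ d) ^ m)} : ℂ) *
        θ (nrm F d (y * (t : Y) ^ gs (p ^ e) m * y⁻¹)) =
      Nat.card ↥(D.T ⊓ Mk.fix ((F ^ d) ^ m)) *
        Asm.cmp (GF F G) (cj y D.T ⊓ GF F G) (cn F G (cj y D.U) d) θ m g := by
  obtain ⟨n₀, h3, h4⟩ := H.exists_rp D.wF
  have A := Mk.frame D H h3 h4
  have B := Mk.pr_of D hy hd ((D.stable_iff hy).2 hn)
  have C := A.tor' B
  have h5 : ((F ^ d) ^ m) y = y := pow_fix hd m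
  have h6 := sum_comp_surj (A := D.T ⊓ Mk.fix ((F ^ d) ^ m)) (B := cj y D.T ⊓ GF F G)
    (ν := fun t => nrm F (d * m) (y * t * y⁻¹))
    (fun t ht => (B.mem_K _).2 ⟨C.nrm_mem _ (conj_mem_cj.2 ht.1), C.nrm_fix _ (conj_mem_cj.2 ht.1) (by
      rw [pow_mul, map_mul, map_mul, map_inv, h5, Mk.mem_fix.1 (mfx ht)])⟩)
    (fun s hs t ht => by rw [← C.nrm_mul _ (conj_mem_cj.2 hs.1) (conj_mem_cj.2 ht.1), conj_mul])
    (fun t ht => by
      obtain ⟨r, hr, h7, h8⟩ := C.nrm_surj hm ht.1 ht.2.2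
      exact ⟨y⁻¹ * r * y, mkfx (mem_cj.1 hr) (by rw [Mk.mem_fix, map_mul, map_mul, map_inv, h5, h7]), by
        rw [← h8]; congr 1; group⟩)
    fun t => cn F G (cj y D.U) d m g t * θ t
  rw [Asm.cmp, Nat.card_eq_fintype_card (α := ↥(D.T ⊓ _)), Nat.card_eq_fintype_card (α := ↥(cj y D.T ⊓ _)), mul_left_comm,
    ← h6, inv_mul_cancel_left₀ (Mk.card_ne_zero _)]
  refine Finset.sum_congr rfl fun t _ => ?_
  have h7 : y * t * y⁻¹ ∈ cj y D.T := conj_mem_cj.2 t.2.1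
  obtain ⟨b, hb, h8⟩ := C.lang h7
  rw [← conj_pow, ← C.nrm_level m h7, cnt_tw (pow_pow_comm_apply F d m) hy ha (A.T'_le B hb) h5 h2 g.2.2 t.2.2 h8
    (t := nrm F (d * m) (y * t * y⁻¹)) ?_ fun u => ?_, cn, CF.cntF_mul]
  · rw [h8, nrm_lang, pow_mul, ← mul_assoc, C.comm _ (pow_maps (fun _ h => pow_maps C.maps d h) m hb) _ hb,
      mul_inv_cancel_right]
  · rw [mem_cj]
    refine ⟨fun h => ?_, fun h => ?_⟩
    · convert D.sbn.T_norm _ (mem_cj.1 hb) _ h using 1; group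
    · convert D.sbn.T_norm' (mem_cj.1 hb) h using 1; group

theorem cor_of_rf {a b : D.I → ℤ} (ha : D.Rt a) (hb : D.Rt b) (h : D.rf a = D.rf b) (c : Lbl D)
    (h1 : chr (D.cor a) c = 1) : chr (D.cor b) c = 1 := by
  have h2 := D.act_rf ha b
  rw [h, D.act_rf_self hb] at h2
  rcases Nodes.PosPair.eq_or_eq_neg_of_smul D.cs D.h hb ha (a := 2) (b := Nodes.Coroot.cpr D.cs D.h b a) two_ne_zero
    (by linear_combination (norm := module) -h2) with rfl | rfl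
  · exact h1
  · rw [D.cor_neg ha, chr_neg, h1, inv_one]

variable (f : Fr D) {c : Lbl D} {r : ℕ}

theorem th_nrm {w : D.W} (h : Fx D w c) {t : Y} (ht : t ∈ D.T) {v : D.R → ℤ}
    (hv : t ^ gs (p ^ f.e) r = D.τ (coch v f.ζ)) :
    th f w c (nrm F (f.d * r) (yw D w * t * (yw D w)⁻¹)) = chr v c := by
  rw [(f.L.tor (yw_mem D w) (yw_rp D w)).nrm_level r (conj_mem_cj.2 ht), conj_pow, hv, (th_spec f h).2]

theorem th_indep {w w' : D.W} (h : Fx D w c) (h' : Fx D w' c) {t : Y} (ht : t ∈ D.T)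
    (h1 : (F ^ (f.d * r)) (yw D w * t * (yw D w)⁻¹) = yw D w * t * (yw D w)⁻¹) :
    th f w c (nrm F (f.d * r) (yw D w * t * (yw D w)⁻¹)) = th f w' c (nrm F (f.d * r) (yw D w' * t * (yw D w')⁻¹)) := by
  have C := f.L.tor (yw_mem D w) (yw_rp D w)
  have h2 : yw D w * t * (yw D w)⁻¹ ∈ cj (yw D w) D.T := conj_mem_cj.2 ht
  rw [pow_mul, frob_pow C.frob r h2] at h1
  obtain ⟨v, hv⟩ := exists_coch f.L f.hζ (yw_mem D w) (yw_rp D w) (pow_mem h2 (gs (p ^ f.e) r))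
    ((C.frob _ (pow_mem h2 _)).trans (pow_gs_iff.2 h1))
  rw [conj_pow, mul_left_inj, mul_right_inj] at hv
  rw [th_nrm f h ht hv, th_nrm f h' ht hv]

theorem eps_iff {e : ℕ} (H : D.Split (f.d * r) e) {w₀ : D.W} (h : Fx D w₀ c) (w : D.W) (i : D.I) :
    epsOf D.cs D.n (fun i => D.τ.comp (coch (D.cw i))⁻¹) (p ^ e)
      (fun t => th f w₀ c (nrm F (f.d * r) (yw D w₀ * t * (yw D w₀)⁻¹))) w i ↔ w * D.cs.simple i * w⁻¹ ∈ Rf D c := by
  have hi := isRoot_sr D.cs D.h i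
  have hr : 0 < r := Nat.pos_of_mul_pos_left H.d_pos
  have h0 := Nat.one_lt_pow f.L.e_pos.ne' (Fact.out : p.Prime).one_lt
  have : NeZero (p ^ f.e - 1) := ⟨by omega⟩
  have he : p ^ e = (p ^ f.e) ^ r := by
    obtain ⟨j, -⟩ := Function.ne_iff.1 (D.wt_ne_zero hi)
    have h1 := D.Mx_pow H
    have h2 := f.L.pow 1
    rw [D.Wm_one, one_mul] at h2
    rw [pow_mul, h2, _root_.smul_pow, one_pow] at h1
    have h3 := congrFun (congrFun h1 j) j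
    simp only [Matrix.smul_apply, one_apply_eq, smul_eq_mul, mul_one] at h3
    exact_mod_cast h3.symm
  have h1 : ∀ (u : kˣ) (j : ℕ), u ^ gs (p ^ f.e) r = f.ζ ^ j → th f w₀ c (nrm F (f.d * r) (yw D w₀ *
      (lift D.cs D.n w * (D.τ.comp (coch (D.cw i))⁻¹) u * (lift D.cs D.n w)⁻¹) * (yw D w₀)⁻¹)) =
      (((chr (D.cor (D.act w (sr i))) c)⁻¹ ^ j : ℂˣ) : ℂ) := fun u j hu => by
    have h2 := D.rp_pr (D.sbn.lift_mem w)
    rw [D.sbn.π_lift] at h2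
    refine (th_nrm f h (D.sbn.conj_T (D.sbn.lift_mem w) (D.τ_mem _)) (v := (j : ℤ) • -D.cor (D.act w (sr i))) ?_).trans
      (by rw [chr_zsmul, chr_neg, zpow_natCast])
    show (_ * (D.τ.comp (coch (D.cw i))⁻¹) u * _) ^ _ = _
    rw [conj_pow, ← map_pow, hu, coch_zsmul, zpow_natCast, coch_neg, D.cor_act_sr, ← mon_coch, ← map_inv, ← D.conj_τ h2]
    rfl
  rw [← D.rf_act]
  constructor
  · intro h2
    obtain ⟨u, hu⟩ := exists_zpow_eq (Int.natCast_ne_zero.2 (gs_ne_zero h0 hr)) f.ζ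
    rw [zpow_natCast] at hu
    have h3 := (h1 u 1 (by rw [hu, pow_one])).symm.trans (h2 u (by
      rw [he, ← pow_gs_iff, hu, ← Nat.sub_add_cancel h0.le, pow_succ, f.hζ.pow_eq_one, one_mul]))
    rw [pow_one, Units.val_eq_one, inv_eq_one] at h3
    exact ⟨_, hi.act w, rfl, h3⟩
  · rintro ⟨a, ha, h2, h3⟩ u hu
    rw [he, ← pow_gs_iff] at hu
    obtain ⟨j, -, hj⟩ := f.hζ.eq_pow_of_mem_rootsOfUnity (ξ := u ^ gs (p ^ f.e) r) (by
      rw [mem_rootsOfUnity, ← mul_left_inj (u ^ gs (p ^ f.e) r), ← pow_succ, Nat.sub_add_cancel h0.le, one_mul, hu])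
    exact (h1 u j hj.symm).trans (by rw [cor_of_rf ha (hi.act w) h2 c h3, inv_one, one_pow, Units.val_one])

end Cfsg.Agent.OM.Cas.Sh

namespace Cfsg.Agent.OM.Cas

open Cfsg Cfsg.Agent.DL Cfsg.Agent.DL.Mk Cfsg.Agent.DL.PP Cfsg.Agent.DL.Lef Cfsg.Agent.KZ.Lie Cfsg.Agent.DL.Asm
  Cfsg.Agent.DL.Uni Cfsg.Agent.Nodes.BNOf Cfsg.Agent.Nodes.Reps

/-- **The trace formula.** -/
theorem boxSh : BoxSh := by
  intro p _ k _ _ Y _ N _ _ ρ F G _ D f _ _ hq c ⟨w₀, h₀⟩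
  obtain ⟨r, e', H', hd'⟩ := LV.T.Sh.exists_split D
  have H := H'.mul f.L.d_pos
  have hd : ∀ u, (F ^ (r * f.d)) (yw D u) = yw D u := fun u => by rw [pow_mul]; exact pow_fix (hd' u) _
  rw [mul_comm r] at H hd
  generalize e' * f.d = e at H
  have := fun u => @Fintype.ofFinite _ (finite_inf_GF D (cj (yw D u) D.T))
  obtain ⟨n₀, h3, h4⟩ := H.exists_rp D.wF
  have A := Mk.frame D H h3 h4
  have hn : ∀ u, (yw D u)⁻¹ * F (yw D u) ∈ D.NN := fun u => ⟨_, yw_rp D u⟩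
  have hp : ∀ l, ((p : ℂ) ^ e) ^ l ≠ 0 := fun l =>
    pow_ne_zero _ (pow_ne_zero _ (Nat.cast_ne_zero.2 (Fact.out : p.Prime).ne_zero))
  refine ⟨f.d * r, e, fun t => th f w₀ c (nrm F (f.d * r) (yw D w₀ * t * (yw D w₀)⁻¹)),
    fun u m g => (((p : ℂ) ^ e) ^ D.cs.length u) ^ m * Asm.cmp (GF F G) (cj (yw D u) D.T ⊓ GF F G)
      (cn F G (cj (yw D u) D.U) (f.d * r)) (th f u c) m g, H, ?_, Sh.eps_iff f H h₀, fun u hu => ?_,
    fun m hm _ κ φ hκ hφ a ha g => ?_⟩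
  · have B := Mk.pr_of D (yw_mem D w₀) (hd w₀) ((D.stable_iff (yw_mem D w₀)).2 (hn w₀))
    have h1 := A.lin_conj (one_mem _) (A.lin_chOf B ⟨(th_spec f h₀).1.one, (th_spec f h₀).1.mul⟩)
    simpa only [chOf, inv_one, one_mul, mul_one, inv_inv] using h1
  · have h1 := (LV.T.Sh.isInd H hd u).spectral_cmp (th_spec f hu).1
    refine ⟨fun g => (LV.T.Sh.expZ_q e _).expC.mul (h1.expC g), funext fun g => ?_⟩
    rw [← R_eq_RW f (yw_mem D u) (yw_rp D u) (th_spec f hu).2 g,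
      Pair.R_eq Mk.mackey ⟨_, yw_mem D u, rfl, rfl, (D.stable_iff (yw_mem D u)).2 (hn u)⟩ _ g g.2, lefFun_apply,
      lef_mul (LV.T.Sh.expZ_q e _).expC (h1.expC g), lef_pow (hp _), one_mul]
    exact (congrFun ((LV.T.Sh.isInd H hd u).res_eq _) g).symm
  have S := A.level m
  have hc := pow_pow_comm_apply F (f.d * r) m
  have hF : ∀ {K : Subgroup Y}, (∀ x ∈ K, F x ∈ K) →
      ∀ x ∈ K ⊓ Mk.fix ((F ^ (f.d * r)) ^ m), F x ∈ K ⊓ Mk.fix ((F ^ (f.d * r)) ^ m) :=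
    fun h x hx => ⟨h x hx.1, (hc x).trans (congrArg F hx.2)⟩
  have := @Fintype.ofFinite _ (Finite.of_injective _ (Subgroup.inclusion_injective S.U_le))
  have := @Fintype.ofFinite _ (Finite.of_injective _ (Subgroup.inclusion_injective (S.T_le.trans S.N_le)))
  rw [ph, Sh.trace S (A.card_X hm) (hF fun u hu => (hq.F_mem_U u).2 hu) (hF fun _ => D.F_mem_G)
    (inf_le_inf_left _ (fix_le_pow _ m)) hκ (r := fun u => (yw D u)⁻¹ * F (yw D u))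
    (fun u => mkfx (hn u) (by rw [Mk.mem_fix, map_mul, map_inv, pow_comm_apply, hd])) (fun u => (yw_rp D u).pr_eq)
    (mkfx (G.mul_mem (G.inv_mem (ha g).1) (D.F_mem_G (ha g).1)) (by
      rw [Mk.mem_fix, map_mul, map_inv, hc, (ha g).2, map_mul, (mem_GF.1 g.2).2]; group)), Finset.mul_sum]
  refine Finset.sum_congr rfl fun u _ => ?_
  by_cases hu : Fx D u c
  · rw [Finset.sum_congr rfl fun t _ => congrArg _ (Sh.th_indep f h₀ hu (A.pow_gs_mem t.2).1 (by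
      rw [map_mul, map_mul, map_inv, hd, Mk.mem_fix.1 (mfx (A.pow_gs_mem t.2))])),
      Sh.cmp_mul H (yw_mem D u) (hn u) (hd u) hm g (ha g).1 (ha g).2, pow_right_comm]
    push_cast
    ring
  · rw [hφ u hu, zero_mul, zero_mul, mul_zero]

end Cfsg.Agent.OM.Cas
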